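import Groth.Agent.CartierFP.Pieces
import Groth.Agent.GenNFlat.Main
import Groth.Prelude.Def_EGA4b
import Mathlib

/-! Normal flatness on stalks gives flatness of the graded pieces on affine charts. -/

set_option autoImplicit false
set_option linter.style.haveILetI false
noncomputable section

namespace Groth.Agent.CartierFP

open CategoryTheory AlgebraicGeometry Groth.Agent.NFlat6

universe u

theorem ker_stalkMap_subschemeι {X : Scheme.{u}} (𝓘 : X.IdealSheafData) (U : X.affineOpens)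
    (d : ↥𝓘.subscheme) (hdU : 𝓘.subschemeι d ∈ U.1) :
    RingHom.ker (𝓘.subschemeι.stalkMap d).hom =
      (𝓘.ideal U).map (X.presheaf.germ U.1 (𝓘.subschemeι d) hdU).hom := by
  let p := (U.2.primeIdealOf ⟨𝓘.subschemeι d, hdU⟩).asIdeal
  let _ := X.presheaf.algebra_section_stalk (⟨𝓘.subschemeι d, hdU⟩ : U.1)
  have : IsLocalization.AtPrime (X.presheaf.stalk (𝓘.subschemeι d)) p :=
    U.2.isLocalization_stalk ⟨𝓘.subschemeι d, hdU⟩
  have key : ∀ b : Γ(X, U.1), 𝓘.subschemeι.stalkMap d (X.presheaf.germ U.1 _ hdU b) =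
      𝓘.subscheme.presheaf.germ (𝓘.subschemeι ⁻¹ᵁ U.1) d hdU (𝓘.subschemeι.app U.1 b) := fun b =>
    Scheme.Hom.germ_stalkMap_apply 𝓘.subschemeι U.1 d hdU b
  have hker : ∀ b, b ∈ 𝓘.ideal U ↔ 𝓘.subschemeι.app U.1 b = 0 := fun b => by
    rw [← 𝓘.ker_subschemeι_app U]; rfl
  refine le_antisymm (fun s hs => ?_) (Ideal.map_le_iff_le_comap.mpr fun b hb => ?_)
  · obtain ⟨⟨b, c⟩, hbc⟩ := IsLocalization.surj p.primeCompl s
    have hb : 𝓘.subscheme.presheaf.germ (𝓘.subschemeι ⁻¹ᵁ U.1) d hdU (𝓘.subschemeι.app U.1 b) = 0 := by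
      rw [← key]
      show (𝓘.subschemeι.stalkMap d).hom (algebraMap Γ(X, U.1) _ b) = 0
      rw [← hbc, map_mul, RingHom.mem_ker.1 hs, zero_mul]
    have hV : IsAffineOpen (𝓘.subschemeι ⁻¹ᵁ U.1) := U.2.preimage _
    let q := (hV.primeIdealOf ⟨d, hdU⟩).asIdeal
    let _ := 𝓘.subscheme.presheaf.algebra_section_stalk
      (⟨d, hdU⟩ : (𝓘.subschemeι ⁻¹ᵁ U.1 : 𝓘.subscheme.Opens))
    have : IsLocalization.AtPrime (𝓘.subscheme.presheaf.stalk d) q := hV.isLocalization_stalk ⟨d, hdU⟩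
    obtain ⟨⟨c', hc'⟩, h0⟩ := (IsLocalization.map_eq_zero_iff q.primeCompl (𝓘.subscheme.presheaf.stalk d)
      (𝓘.subschemeι.app U.1 b)).1 hb
    obtain ⟨e, rfl⟩ := 𝓘.subschemeι_app_surjective U c'
    have he : IsUnit (algebraMap Γ(X, U.1) (X.presheaf.stalk (𝓘.subschemeι d)) e) := by
      refine isUnit_of_map_unit (𝓘.subschemeι.stalkMap d).hom _ ?_
      show IsUnit (𝓘.subschemeι.stalkMap d (X.presheaf.germ U.1 _ hdU e))
      rw [key]
      exact IsLocalization.map_units (𝓘.subscheme.presheaf.stalk d) (⟨_, hc'⟩ : q.primeCompl)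
    have hmem : e * b ∈ 𝓘.ideal U := (hker _).2 (by rw [map_mul]; exact h0)
    have hm : algebraMap Γ(X, U.1) (X.presheaf.stalk (𝓘.subschemeι d)) (e * b) ∈
        (𝓘.ideal U).map (algebraMap Γ(X, U.1) (X.presheaf.stalk (𝓘.subschemeι d))) :=
      Ideal.mem_map_of_mem _ hmem
    rw [map_mul, Ideal.unit_mul_mem_iff_mem _ he, ← hbc,
      Ideal.mul_unit_mem_iff_mem _ (IsLocalization.map_units _ c)] at hm
    exact hm
  · show 𝓘.subschemeι.stalkMap d _ = 0
    rw [key, (hker b).1 hb, map_zero]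

theorem flat_piece_of_localization {T L : Type u} [CommRing T] [CommRing L] [Algebra T L] (I : Ideal T)
    (m : Ideal (T ⧸ I)) [m.IsPrime] [IsLocalization.AtPrime L (m.comap (Ideal.Quotient.mk I))]
    (h : EGA4.IsNormallyFlat (I.map (algebraMap T L)) L) (n : ℕ) :
    Module.Flat (T ⧸ I) (LocalizedModule m.primeCompl (piece I n)) := by
  let M := (m.comap (Ideal.Quotient.mk I)).primeCompl
  let I' := I.map (algebraMap T L)
  letI : Algebra (T ⧸ I) (L ⧸ I') :=
    (Ideal.quotientMap I' (algebraMap T L) Ideal.le_comap_map).toAlgebra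
  haveI : IsScalarTower T (T ⧸ I) (L ⧸ I') := IsScalarTower.of_algebraMap_eq fun _ => rfl
  have hM : Algebra.algebraMapSubmonoid (T ⧸ I) M = m.primeCompl := by
    ext x
    obtain ⟨x, rfl⟩ := Ideal.Quotient.mk_surjective x
    refine ⟨fun ⟨y, hy, hyx⟩ => ?_, fun hx => ⟨x, hx, rfl⟩⟩
    show Ideal.Quotient.mk I x ∉ m
    rw [← hyx]
    exact hy
  haveI : IsLocalization (Algebra.algebraMapSubmonoid (T ⧸ I) M) (L ⧸ I') :=
    IsLocalization.of_surjective M L (Ideal.Quotient.mk I) Ideal.Quotient.mk_surjective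
      (Ideal.Quotient.mk I') Ideal.Quotient.mk_surjective rfl (by rw [Ideal.mk_ker, Ideal.mk_ker])
  haveI : IsLocalization m.primeCompl (L ⧸ I') := hM ▸ ‹_›
  haveI : IsLocalizedModule M (Algebra.linearMap T L) := inferInstance
  haveI := isLocalizedModule_pcMap (R := I) M (Algebra.linearMap T L) n
  let φ : piece I n →ₗ[T ⧸ I] Pc I L n :=
    LinearMap.extendScalarsOfSurjective Ideal.Quotient.mk_surjective (pcMap (Algebra.linearMap T L) n)
  haveI : IsLocalizedModule M (φ.restrictScalars T) := by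
    rw [show φ.restrictScalars T = pcMap (Algebra.linearMap T L) n from LinearMap.ext fun _ => rfl]
    infer_instance
  haveI hφ : IsLocalizedModule m.primeCompl φ :=
    hM ▸ IsLocalizedModule.of_restrictScalars (A := T ⧸ I) M φ
  let P' := ↥(I' ^ n • (⊤ : Submodule L L)) ⧸ (I' • (⊤ : Submodule L ↥(I' ^ n • (⊤ : Submodule L L))))
  letI : Module (T ⧸ I) P' := Module.compHom P' (algebraMap (T ⧸ I) (L ⧸ I'))
  haveI : IsScalarTower (T ⧸ I) (L ⧸ I') P' := IsScalarTower.of_algebraMap_smul fun _ _ => rfl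
  let e : P' ≃ₗ[T ⧸ I] Pc I L n :=
    { GenNFlat.pieceEquiv I n with
      map_smul' := fun c z => by
        obtain ⟨a, rfl⟩ := Ideal.Quotient.mk_surjective c
        exact GenNFlat.pieceEquiv_smul I n a z }
  haveI : Module.Flat (L ⧸ I') P' := h n
  haveI : Module.Flat (T ⧸ I) P' := (Module.flat_iff_of_isLocalization (L ⧸ I') m.primeCompl P').mp ‹_›
  haveI : Module.Flat (T ⧸ I) (Pc I L n) := Module.Flat.of_linearEquiv e.symm
  exact Module.Flat.of_linearEquiv (IsLocalizedModule.iso m.primeCompl φ)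

theorem flat_piece_of_isNormallyFlat {X : Scheme.{u}} (𝓘 : X.IdealSheafData)
    (hnf : ∀ y : ↥𝓘.subscheme, EGA4.IsNormallyFlat (RingHom.ker (𝓘.subschemeι.stalkMap y).hom)
      ↑(X.presheaf.stalk (𝓘.subschemeι y)))
    (U : X.affineOpens) (n : ℕ) : Module.Flat (Γ(X, U.1) ⧸ 𝓘.ideal U) (piece (𝓘.ideal U) n) := by
  refine Module.flat_of_localized_maximal _ fun m hm => ?_
  let pp : PrimeSpectrum Γ(X, U.1) := ⟨m.comap (Ideal.Quotient.mk _), inferInstance⟩
  let x : X := U.2.fromSpec pp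
  have hxU : x ∈ U.1 := U.2.range_fromSpec.le ⟨pp, rfl⟩
  have hxI : x ∈ Set.range 𝓘.subschemeι := by
    rw [Scheme.IdealSheafData.range_subschemeι]
    refine (Scheme.IdealSheafData.mem_support_iff_of_mem (U := U) hxU).mpr ?_
    show pp ∈ U.2.fromSpec ⁻¹' (X.zeroLocus (U := U.1) (𝓘.ideal U))
    rw [U.2.fromSpec_preimage_zeroLocus]
    refine (PrimeSpectrum.mem_zeroLocus _ _).mpr fun a ha => ?_
    show Ideal.Quotient.mk _ a ∈ m
    rw [Ideal.Quotient.eq_zero_iff_mem.mpr ha]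
    exact zero_mem m
  obtain ⟨y, hy⟩ := hxI
  have hyU : 𝓘.subschemeι y ∈ U.1 := hy ▸ hxU
  letI := X.presheaf.algebra_section_stalk (⟨𝓘.subschemeι y, hyU⟩ : U.1)
  have hp : (U.2.primeIdealOf ⟨𝓘.subschemeι y, hyU⟩) = pp :=
    U.2.fromSpec.isOpenEmbedding.injective ((U.2.fromSpec_primeIdealOf _).trans hy)
  haveI : IsLocalization.AtPrime (X.presheaf.stalk (𝓘.subschemeι y)) (m.comap (Ideal.Quotient.mk _)) := by
    have hl := U.2.isLocalization_stalk ⟨𝓘.subschemeι y, hyU⟩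
    have : ∀ q : PrimeSpectrum Γ(X, U.1), q = pp →
        IsLocalization.AtPrime (X.presheaf.stalk (𝓘.subschemeι y)) q.asIdeal →
        IsLocalization.AtPrime (X.presheaf.stalk (𝓘.subschemeι y)) pp.asIdeal := by
      rintro q rfl h; exact h
    exact this _ hp hl
  have h := hnf y
  rw [ker_stalkMap_subschemeι 𝓘 U y hyU] at h
  exact flat_piece_of_localization (L := X.presheaf.stalk (𝓘.subschemeι y)) (𝓘.ideal U) m h n

end Groth.Agent.CartierFP
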