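import Mathlib

/-! A regular element with smooth quotient: the algebra is smooth along it. -/

set_option autoImplicit false
noncomputable section

namespace Groth.Agent.CartierFP

open TensorProduct IsLocalRing

universe u

variable {R P : Type u} [CommRing R] [CommRing P] [IsLocalRing P] [Algebra R P]
  [Algebra.FormallySmooth R P] [Module.Free P Ω[P⁄R]] [Module.Finite P Ω[P⁄R]]

theorem formallySmooth_of_regular (J : Ideal P) (hJ : J.FG) (α : P) (hα : α ∈ maximalIdeal P)
    (hJm : J ≤ maximalIdeal P) (hreg : ∀ x, α * x ∈ J → x ∈ J)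
    (h : Algebra.FormallySmooth R (P ⧸ (J ⊔ Ideal.span {α}))) :
    Algebra.FormallySmooth R (P ⧸ J) := by
  set K := J ⊔ Ideal.span {α} with hK
  have hKm : K ≤ maximalIdeal P := sup_le hJm ((Ideal.span_singleton_le_iff_mem _).mpr hα)
  let k := P ⧸ maximalIdeal P
  letI : Field k := Ideal.Quotient.field _
  haveI : Nontrivial (P ⧸ J) := Ideal.Quotient.nontrivial_iff.mpr fun hh =>
    (maximalIdeal.isMaximal P).ne_top (top_unique (hh ▸ hJm))
  haveI : Nontrivial (P ⧸ K) := Ideal.Quotient.nontrivial_iff.mpr fun hh =>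
    (maximalIdeal.isMaximal P).ne_top (top_unique (hh ▸ hKm))
  haveI : IsLocalRing (P ⧸ J) := .of_surjective' _ (Ideal.Quotient.mk_surjective (I := J))
  haveI : IsLocalRing (P ⧸ K) := .of_surjective' _ (Ideal.Quotient.mk_surjective (I := K))
  letI : Algebra (P ⧸ J) k := (Ideal.Quotient.factor hJm).toAlgebra
  haveI : IsScalarTower P (P ⧸ J) k := .of_algebraMap_eq fun _ => rfl
  letI : Algebra (P ⧸ K) k := (Ideal.Quotient.factor hKm).toAlgebra
  haveI : IsScalarTower P (P ⧸ K) k := .of_algebraMap_eq fun _ => rfl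
  have hmax : ∀ (I : Ideal P) (hI : I ≤ maximalIdeal P) [IsLocalRing (P ⧸ I)],
      maximalIdeal (P ⧸ I) ≤ RingHom.ker (Ideal.Quotient.factor hI) := by
    intro I hI _ x hx
    obtain ⟨y, rfl⟩ := Ideal.Quotient.mk_surjective x
    show Ideal.Quotient.mk _ y = 0
    rw [Ideal.Quotient.eq_zero_iff_mem]
    exact fun hy => hx (hy.map (Ideal.Quotient.mk I))
  have hkJ : RingHom.ker (algebraMap P (P ⧸ J)) = J := Ideal.mk_ker
  have hkK : RingHom.ker (algebraMap P (P ⧸ K)) = K := Ideal.mk_ker
  have hKfg : K.FG := Submodule.FG.sup hJ ⟨{α}, by simp⟩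
  have hinjK := (Algebra.FormallySmooth.iff_injective_cotangentComplexBaseChange
    (R := R) (S := P ⧸ K) P k Ideal.Quotient.mk_surjective (hkK.symm ▸ hKfg) (hmax K hKm)).mp h
  rw [Algebra.FormallySmooth.iff_injective_cotangentComplexBaseChange
    (R := R) (S := P ⧸ J) P k Ideal.Quotient.mk_surjective (hkJ.symm ▸ hJ) (hmax J hJm)]
  have hle : RingHom.ker (algebraMap P (P ⧸ J)) ≤ RingHom.ker (algebraMap P (P ⧸ K)) := by
    rw [hkJ, hkK]; exact le_sup_left
  let ι : k ⊗[P] RingHom.ker (algebraMap P (P ⧸ J)) →ₗ[P] k ⊗[P] RingHom.ker (algebraMap P (P ⧸ K)) :=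
    (Submodule.inclusion hle).lTensor k
  have hι : Function.Injective ι := by
    rw [injective_iff_map_eq_zero]
    intro t ht
    obtain ⟨x, rfl⟩ : ∃ x, (1 : k) ⊗ₜ[P] x = t := by
      obtain ⟨y, hy⟩ := Submodule.Quotient.mk_surjective _
        (quotTensorEquivQuotSMul (RingHom.ker (algebraMap P (P ⧸ J))) (maximalIdeal P) t)
      refine ⟨y, ?_⟩
      apply (quotTensorEquivQuotSMul _ (maximalIdeal P)).injective
      rw [quotTensorEquivQuotSMul_mk_one_tmul, hy]
    have h0 := congrArg (quotTensorEquivQuotSMul _ (maximalIdeal P)) ht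
    rw [LinearMap.lTensor_tmul, map_zero, quotTensorEquivQuotSMul_mk_one_tmul,
      Submodule.Quotient.mk_eq_zero] at h0
    apply (quotTensorEquivQuotSMul _ (maximalIdeal P)).injective
    rw [map_zero, quotTensorEquivQuotSMul_mk_one_tmul, Submodule.Quotient.mk_eq_zero,
      Submodule.mem_smul_top_iff]
    rw [Submodule.mem_smul_top_iff, Submodule.coe_inclusion, hkK, smul_eq_mul, hK, Ideal.mul_sup,
      Submodule.mem_sup] at h0
    obtain ⟨j, hj, c, hc, hjc⟩ := h0
    obtain ⟨d, hd, rfl⟩ := Ideal.mem_mul_span_singleton.mp hc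
    have hxJ : (x : P) ∈ J := hkJ.le x.2
    have hdJ : d ∈ J := hreg d (by
      have : d * α = (x : P) - j := eq_sub_of_add_eq' hjc
      rw [mul_comm, this]
      exact sub_mem hxJ (Ideal.mul_le_right hj))
    rw [smul_eq_mul, ← hjc, show RingHom.ker (algebraMap P (P ⧸ J)) = J from hkJ]
    exact add_mem hj (by rw [mul_comm d α]; exact Ideal.mul_mem_mul hα hdJ)
  have hcomp : (KaehlerDifferential.cotangentComplexBaseChange R (P ⧸ J) P k).restrictScalars P =
      ((KaehlerDifferential.cotangentComplexBaseChange R (P ⧸ K) P k).restrictScalars P).comp ι := by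
    refine TensorProduct.ext' fun a b => ?_
    show _ = KaehlerDifferential.cotangentComplexBaseChange R (P ⧸ K) P k
      (a ⊗ₜ[P] Submodule.inclusion hle b)
    rw [KaehlerDifferential.cotangentComplexBaseChange_tmul]
    exact KaehlerDifferential.cotangentComplexBaseChange_tmul _ _
  intro x y hxy
  apply hι
  apply hinjK
  calc _ = KaehlerDifferential.cotangentComplexBaseChange R (P ⧸ J) P k x :=
        (LinearMap.congr_fun hcomp x).symm
    _ = KaehlerDifferential.cotangentComplexBaseChange R (P ⧸ J) P k y := hxy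
    _ = _ := LinearMap.congr_fun hcomp y


theorem exists_presentation_atPrime {R P₀ C : Type u} [CommRing R] [CommRing P₀] [CommRing C]
    [Algebra R P₀] [Algebra R C] (f : P₀ →ₐ[R] C) (hf : Function.Surjective f) (q : Ideal C)
    [q.IsPrime] (p : Ideal P₀) [p.IsPrime] (hp : q.comap f.toRingHom = p) :
    ∃ F : Localization.AtPrime p →ₐ[R] Localization.AtPrime q,
      Function.Surjective F ∧ (∀ x, F (algebraMap P₀ _ x) = algebraMap C _ (f x)) ∧
      RingHom.ker F = (RingHom.ker f).map (algebraMap P₀ _) := by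
  subst hp
  let M := (q.comap f.toRingHom).primeCompl
  let F : Localization.AtPrime (q.comap f.toRingHom) →ₐ[R] Localization.AtPrime q :=
    IsLocalization.liftAlgHom (M := M)
      (f := (IsScalarTower.toAlgHom R C (Localization.AtPrime q)).comp f) fun x => by
      simpa using IsLocalization.map_units (M := q.primeCompl) (Localization.AtPrime q) ⟨f x.1, x.2⟩
  have hF : ∀ x, F (algebraMap P₀ _ x) = algebraMap C _ (f x) :=
    fun x => IsLocalization.lift_eq _ x
  have hmk : ∀ (x : P₀) (s : M),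
      algebraMap C _ (f s.1) * F (IsLocalization.mk' _ x s) = algebraMap C _ (f x) := fun x s => by
    rw [← hF, ← hF, ← map_mul, IsLocalization.mk'_spec']
  refine ⟨F, ?_, hF, ?_⟩
  · intro x
    obtain ⟨x, ⟨s, hs⟩, rfl⟩ := IsLocalization.exists_mk'_eq q.primeCompl x
    obtain ⟨x, rfl⟩ := hf x
    obtain ⟨s, rfl⟩ := hf s
    refine ⟨IsLocalization.mk' (M := M) _ x ⟨s, hs⟩, ?_⟩
    rw [IsLocalization.eq_mk'_iff_mul_eq, mul_comm]
    exact hmk x ⟨s, hs⟩
  · refine le_antisymm ?_ (Ideal.map_le_iff_le_comap.mpr fun x hx => ?_)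
    · intro x hx
      obtain ⟨x, s, rfl⟩ := IsLocalization.exists_mk'_eq M x
      have h0 := hmk x s
      rw [RingHom.mem_ker.mp hx, mul_zero, eq_comm,
        IsLocalization.map_eq_zero_iff q.primeCompl] at h0
      obtain ⟨⟨a, ha⟩, e⟩ := h0
      obtain ⟨a, rfl⟩ := hf a
      rw [IsLocalization.mk'_mem_map_algebraMap_iff]
      exact ⟨a, ha, show f (a * x) = 0 by rw [map_mul]; exact e⟩
    · show F _ = 0
      rw [hF, show f x = 0 from hx, map_zero]

theorem isSmoothAt_of_regular {R B : Type u} [CommRing R] [CommRing B] [Algebra R B]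
    [Algebra.FinitePresentation R B] (a : B) (ha : a ∈ nonZeroDivisors B) (q : Ideal B) [q.IsPrime]
    (q' : Ideal (B ⧸ Ideal.span {a})) [q'.IsPrime] (hq : q'.comap (Ideal.Quotient.mk _) = q)
    [Algebra.IsSmoothAt R q'] : Algebra.IsSmoothAt R q := by
  obtain ⟨n, f, hf, hker⟩ := Algebra.FinitePresentation.out (R := R) (A := B)
  let g : MvPolynomial (Fin n) R →ₐ[R] B ⧸ Ideal.span {a} := (Ideal.Quotient.mkₐ R _).comp f
  have hg : Function.Surjective g := Ideal.Quotient.mk_surjective.comp hf
  have hqq : q'.comap g.toRingHom = q.comap f.toRingHom := by rw [← hq]; rfl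
  obtain ⟨α, rfl⟩ := hf a
  have hkerg : RingHom.ker g = RingHom.ker f ⊔ Ideal.span {α} := by
    refine le_antisymm (fun x hx => ?_) (sup_le (fun x hx => ?_)
      ((Ideal.span_singleton_le_iff_mem _).mpr ?_))
    · obtain ⟨c, hc⟩ := Ideal.mem_span_singleton'.mp (Ideal.Quotient.eq_zero_iff_mem.mp
        (show Ideal.Quotient.mk _ (f x) = 0 from hx))
      obtain ⟨c, rfl⟩ := hf c
      rw [show x = (x - c * α) + c * α by ring]
      exact add_mem (Ideal.mem_sup_left (show f (x - c * α) = 0 by rw [map_sub, map_mul, hc, sub_self]))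
        (Ideal.mem_sup_right (Ideal.mul_mem_left _ _ (Ideal.mem_span_singleton_self α)))
    · show Ideal.Quotient.mk _ (f x) = 0
      rw [show f x = 0 from hx, map_zero]
    · exact Ideal.Quotient.eq_zero_iff_mem.mpr (Ideal.mem_span_singleton_self _)
  obtain ⟨F, hF, hFa, hFk⟩ := exists_presentation_atPrime f hf q _ rfl
  obtain ⟨G, hG, -, hGk⟩ := exists_presentation_atPrime g hg q' _ hqq
  let P := Localization.AtPrime (q.comap f.toRingHom)
  haveI : Algebra.FormallyEtale (MvPolynomial (Fin n) R) P := .of_isLocalization (q.comap f.toRingHom).primeCompl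
  haveI : Algebra.FormallySmooth R P := .comp _ (MvPolynomial (Fin n) R) _
  haveI : Module.Free P Ω[P⁄R] :=
    .of_equiv (KaehlerDifferential.tensorKaehlerEquivOfFormallyEtale R (MvPolynomial (Fin n) R) P)
  haveI : Module.Finite P Ω[P⁄R] :=
    .equiv (KaehlerDifferential.tensorKaehlerEquivOfFormallyEtale R (MvPolynomial (Fin n) R) P)
  set J : Ideal P := (RingHom.ker f).map (algebraMap _ P) with hJ
  have hK : RingHom.ker G = J ⊔ Ideal.span {algebraMap _ P α} := by
    rw [hGk, hkerg, Ideal.map_sup, Ideal.map_span, Set.image_singleton]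
  haveI : Algebra.FormallySmooth R (P ⧸ (J ⊔ Ideal.span {algebraMap _ P α})) :=
    .of_equiv ((Ideal.quotientKerAlgEquivOfSurjective hG).symm.trans
      (Ideal.quotientEquivAlgOfEq R hK))
  have hFsm := formallySmooth_of_regular (R := R) J (hker.map _) (algebraMap _ P α)
    (by
      have hm : α ∈ q.comap f.toRingHom := by
        rw [← hqq]
        show g α ∈ q'
        rw [show g α = 0 from Ideal.Quotient.eq_zero_iff_mem.mpr (Ideal.mem_span_singleton_self _)]
        exact zero_mem _
      exact (IsLocalization.AtPrime.to_map_mem_maximal_iff P (q.comap f.toRingHom) α).mpr hm)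
    (IsLocalRing.le_maximalIdeal (hFk ▸ RingHom.ker_ne_top F))
    (fun x hx => by
      rw [← hFk, RingHom.mem_ker] at hx ⊢
      rw [map_mul, hFa] at hx
      exact (mem_nonZeroDivisors_iff.mp
        (IsLocalization.map_nonZeroDivisors_le q.primeCompl _ ⟨_, ha, rfl⟩)).1 _ hx)
    ‹_›
  exact .of_equiv ((Ideal.quotientEquivAlgOfEq R hFk).symm.trans
    (Ideal.quotientKerAlgEquivOfSurjective hF))

end Groth.Agent.CartierFP
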