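import Groth.Agent.CartierFP.Ker
import Groth.Agent.CartierFP.Smooth
import Groth.Prelude.Def_BlowUp2

/-! Blow-up charts with flat, finitely presented exceptional divisor are finitely presented. -/

set_option autoImplicit false
noncomputable section

namespace Groth.Agent.CartierFP

open MvPolynomial TensorProduct

universe u

variable {R T : Type u} [CommRing R] [CommRing T] [Algebra R T]

theorem affineAlgebra_eq_adjoin (I : Ideal T) (a : T) {m : ℕ} (s : Fin m → T)
    (hs : Ideal.span (Set.range s) = I) :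
    BlowUp.affineAlgebra T I a = Algebra.adjoin T (Set.range fun i =>
      IsLocalization.mk' (Localization.Away a) (s i) (⟨a, Submonoid.mem_powers a⟩ : Submonoid.powers a)) := by
  refine le_antisymm (Algebra.adjoin_le ?_) (Algebra.adjoin_mono ?_)
  · rintro _ ⟨x, hx, rfl⟩
    rw [← hs] at hx
    obtain ⟨r, rfl⟩ := Ideal.mem_span_range_iff_exists_fun.mp hx
    rw [← mul_one (IsLocalization.mk' _ _ _), ← map_one (algebraMap T (Localization.Away a))]
    simp only [map_one, mul_one, SetLike.mem_coe]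
    rw [IsLocalization.mk'_eq_mul_mk'_one, map_sum, Finset.sum_mul]
    refine sum_mem fun i _ => ?_
    rw [map_mul, mul_assoc, ← IsLocalization.mk'_eq_mul_mk'_one]
    exact mul_mem (Subalgebra.algebraMap_mem _ _) (Algebra.subset_adjoin ⟨i, rfl⟩)
  · rintro _ ⟨i, rfl⟩
    exact ⟨s i, hs ▸ Ideal.subset_span ⟨i, rfl⟩, rfl⟩

variable {n m : ℕ} (f₀ : MvPolynomial (Fin n) R →ₐ[R] T) (a : T) (s : Fin m → T)
  (σ : Fin m → MvPolynomial (Fin n) R) (α₀ : MvPolynomial (Fin n) R)

/-- Generators of the chart. -/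
def chartVar : Fin (n + m) → Localization.Away a :=
  Fin.append (fun i => algebraMap T (Localization.Away a) (f₀ (X i)))
    (fun i => IsLocalization.mk' (Localization.Away a) (s i)
      (⟨a, Submonoid.mem_powers a⟩ : Submonoid.powers a))

/-- Presentation of the chart. -/
def chartHom : MvPolynomial (Fin (n + m)) R →ₐ[R] Localization.Away a :=
  MvPolynomial.aeval (chartVar f₀ a s)

theorem chartHom_rename (p : MvPolynomial (Fin n) R) :
    chartHom f₀ a s (rename (Fin.castAdd m) p) = algebraMap T _ (f₀ p) := by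
  have : (chartHom f₀ a s).comp (rename (Fin.castAdd m)) =
      (IsScalarTower.toAlgHom R T (Localization.Away a)).comp f₀ := by
    ext i
    simp [chartHom, chartVar]
  exact AlgHom.congr_fun this p

theorem chartHom_rel (hα₀ : f₀ α₀ = a) (hσ : ∀ i, f₀ (σ i) = s i) (i : Fin m) :
    chartHom f₀ a s (rename (Fin.castAdd m) α₀ * X (Fin.natAdd n i) - rename (Fin.castAdd m) (σ i)) = 0 := by
  have hz : algebraMap T (Localization.Away a) a * IsLocalization.mk' (Localization.Away a) (s i)
      (⟨a, Submonoid.mem_powers a⟩ : Submonoid.powers a) = algebraMap T _ (s i) := by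
    rw [mul_comm]; exact IsLocalization.mk'_spec (Localization.Away a) (s i) _
  rw [map_sub, map_mul, chartHom_rename, chartHom_rename, hα₀, hσ, sub_eq_zero, ← hz]
  simp [chartHom, chartVar]

variable {f₀ a s σ α₀}

theorem chartHom_mem {I : Ideal T} (hs : Ideal.span (Set.range s) = I) (p : MvPolynomial (Fin (n + m)) R) :
    chartHom f₀ a s p ∈ BlowUp.affineAlgebra T I a := by
  induction p using MvPolynomial.induction_on with
  | C r =>
    rw [show chartHom f₀ a s (C r) = algebraMap T (Localization.Away a) (algebraMap R T r) by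
      simp [chartHom, IsScalarTower.algebraMap_apply R T (Localization.Away a)]]
    exact Subalgebra.algebraMap_mem _ _
  | add p q hp hq => rw [map_add]; exact add_mem hp hq
  | mul_X p i hp =>
    rw [map_mul]
    refine mul_mem hp ?_
    refine Fin.addCases (fun j => ?_) (fun j => ?_) i <;> simp only [chartHom, chartVar, aeval_X,
      Fin.append_left, Fin.append_right]
    · exact Subalgebra.algebraMap_mem _ _
    · rw [affineAlgebra_eq_adjoin I a s hs]
      exact Algebra.subset_adjoin ⟨j, rfl⟩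

theorem exists_chartHom_eq {I : Ideal T} (hf₀ : Function.Surjective f₀)
    (hs : Ideal.span (Set.range s) = I) (x : BlowUp.affineAlgebra T I a) :
    ∃ p, chartHom f₀ a s p = x := by
  obtain ⟨x, hx⟩ := x
  show x ∈ (chartHom f₀ a s).range
  rw [affineAlgebra_eq_adjoin I a s hs] at hx
  induction hx using Algebra.adjoin_induction with
  | mem x hx =>
    obtain ⟨i, rfl⟩ := hx
    exact ⟨X (Fin.natAdd n i), by simp [chartHom, chartVar]⟩
  | algebraMap r =>
    obtain ⟨w, rfl⟩ := hf₀ r
    exact ⟨_, chartHom_rename f₀ a s w⟩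
  | add x y _ _ hx hy => exact add_mem hx hy
  | mul x y _ _ hx hy => exact mul_mem hx hy

theorem exists_pow_mul_mem (hα₀ : f₀ α₀ = a) (hσ : ∀ i, f₀ (σ i) = s i)
    {J₀ : Ideal (MvPolynomial (Fin (n + m)) R)}
    (hJ : ∀ x, f₀ x = 0 → rename (Fin.castAdd m) x ∈ J₀)
    (hJr : ∀ i, rename (Fin.castAdd m) α₀ * X (Fin.natAdd n i) - rename (Fin.castAdd m) (σ i) ∈ J₀)
    (p : MvPolynomial (Fin (n + m)) R) (hp : chartHom f₀ a s p = 0) :
    ∃ N : ℕ, rename (Fin.castAdd m) α₀ ^ N * p ∈ J₀ := by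
  let ι : MvPolynomial (Fin n) R →ₐ[R] MvPolynomial (Fin (n + m)) R :=
    MvPolynomial.rename (Fin.castAdd m)
  have hrw : ∀ p : MvPolynomial (Fin (n + m)) R, ∃ (N : ℕ) (w : MvPolynomial (Fin n) R),
      ι α₀ ^ N * p - ι w ∈ J₀ ∧ algebraMap T (Localization.Away a) (f₀ w) =
        chartHom f₀ a s (ι α₀ ^ N * p) := by
    suffices h : ∀ p : MvPolynomial (Fin (n + m)) R, ∃ (N : ℕ) (w : MvPolynomial (Fin n) R),
        ι α₀ ^ N * p - ι w ∈ J₀ ∧ chartHom f₀ a s (ι α₀ ^ N * p - ι w) = 0 by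
      intro p
      obtain ⟨N, w, h1, h2⟩ := h p
      refine ⟨N, w, h1, ?_⟩
      rw [map_sub, sub_eq_zero] at h2
      rw [h2]
      exact (chartHom_rename f₀ a s w).symm
    intro p
    induction p using MvPolynomial.induction_on with
    | C r => exact ⟨0, C r, by simp [ι], by simp [ι]⟩
    | add p q hp hq =>
      obtain ⟨N, w, h, k⟩ := hp
      obtain ⟨N', w', h', k'⟩ := hq
      refine ⟨N + N', α₀ ^ N' * w + α₀ ^ N * w', ?_⟩
      have e : ι α₀ ^ (N + N') * (p + q) - ι (α₀ ^ N' * w + α₀ ^ N * w') =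
          ι α₀ ^ N' * (ι α₀ ^ N * p - ι w) + ι α₀ ^ N * (ι α₀ ^ N' * q - ι w') := by
        rw [map_add, map_mul, map_mul, map_pow, map_pow]; ring
      rw [e]
      exact ⟨add_mem (Ideal.mul_mem_left _ _ h) (Ideal.mul_mem_left _ _ h'),
        by rw [map_add, map_mul, map_mul (chartHom f₀ a s) (ι α₀ ^ N), k, k', mul_zero, mul_zero, add_zero]⟩
    | mul_X p i hp =>
      obtain ⟨N, w, h, k⟩ := hp
      refine Fin.addCases (fun j => ?_) (fun j => ?_) i
      · refine ⟨N, w * X j, ?_⟩
        rw [map_mul ι, show ι (X j) = X (Fin.castAdd m j) from rename_X _ _, ← mul_assoc, ← sub_mul]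
        exact ⟨Ideal.mul_mem_right _ _ h, by rw [map_mul, k, zero_mul]⟩
      · refine ⟨N + 1, w * σ j, ?_⟩
        rw [map_mul ι, show ι α₀ ^ (N + 1) * (p * X (Fin.natAdd n j)) - ι w * ι (σ j) =
          (ι α₀ ^ N * p - ι w) * (ι α₀ * X (Fin.natAdd n j)) +
            ι w * (ι α₀ * X (Fin.natAdd n j) - ι (σ j)) by ring]
        exact ⟨add_mem (Ideal.mul_mem_right _ _ h) (Ideal.mul_mem_left _ _ (hJr j)),
          by rw [map_add, map_mul, map_mul (chartHom f₀ a s) (ι w), k,
            chartHom_rel f₀ a s σ α₀ hα₀ hσ j, zero_mul, mul_zero, add_zero]⟩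
  obtain ⟨N, w, h, hw'⟩ := hrw p
  rw [map_mul, hp, mul_zero] at hw'
  obtain ⟨⟨_, M, rfl⟩, hM⟩ := (IsLocalization.map_eq_zero_iff (Submonoid.powers a) _ _).mp hw'
  refine ⟨M + N, ?_⟩
  have hw : ι (α₀ ^ M * w) ∈ J₀ := hJ _ (by rw [map_mul, map_pow, hα₀]; exact hM)
  rw [map_mul, map_pow] at hw
  show ι α₀ ^ (M + N) * p ∈ J₀
  rw [show ι α₀ ^ (M + N) * p = ι α₀ ^ M * (ι α₀ ^ N * p - ι w) + ι α₀ ^ M * ι w by ring]
  exact add_mem (Ideal.mul_mem_left _ _ h) hw

theorem chartHom_regular (hα₀ : f₀ α₀ = a) (p : MvPolynomial (Fin (n + m)) R)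
    (hp : chartHom f₀ a s (rename (Fin.castAdd m) α₀) * chartHom f₀ a s p = 0) :
    chartHom f₀ a s p = 0 := by
  rw [chartHom_rename, hα₀] at hp
  exact (IsLocalization.Away.algebraMap_isUnit a).mul_right_eq_zero.mp hp

theorem exists_chart_surjection {I : Ideal T} (hf₀ : Function.Surjective f₀)
    (hs : Ideal.span (Set.range s) = I) (hα₀ : f₀ α₀ = a) :
    ∃ ψ : MvPolynomial (Fin (n + m)) R →ₐ[R] BlowUp.affineAlgebra T I a,
      Function.Surjective ψ ∧ RingHom.ker ψ.toRingHom = RingHom.ker (chartHom f₀ a s).toRingHom ∧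
      ∃ q : MvPolynomial (Fin (n + m)) R →ₐ[R] BlowUp.affineAlgebra T I a ⧸
          Ideal.span {algebraMap T (BlowUp.affineAlgebra T I a) a},
        Function.Surjective q ∧ RingHom.ker q.toRingHom =
          RingHom.ker (chartHom f₀ a s).toRingHom ⊔ Ideal.span {rename (Fin.castAdd m) α₀} := by
  let φ := chartHom f₀ a s
  let ψ : MvPolynomial (Fin (n + m)) R →ₐ[R] BlowUp.affineAlgebra T I a :=
    φ.codRestrict ((BlowUp.affineAlgebra T I a).restrictScalars R) (chartHom_mem hs)
  have hψ : Function.Surjective ψ := fun x => by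
    obtain ⟨p, hp⟩ := exists_chartHom_eq hf₀ hs x
    exact ⟨p, Subtype.ext hp⟩
  let qa : BlowUp.affineAlgebra T I a →ₐ[R] BlowUp.affineAlgebra T I a ⧸
      Ideal.span {algebraMap T (BlowUp.affineAlgebra T I a) a} := Ideal.Quotient.mkₐ R _
  refine ⟨ψ, hψ, ?_, qa.comp ψ, Ideal.Quotient.mk_surjective.comp hψ, ?_⟩
  · ext x
    exact ⟨fun h => congrArg Subtype.val (show ψ x = 0 from h), fun h => Subtype.ext h⟩
  have hα : φ (rename (Fin.castAdd m) α₀) = algebraMap T _ a := by
    rw [chartHom_rename, hα₀]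
  refine le_antisymm (fun x hx => ?_) (sup_le (fun x hx => ?_)
    ((Ideal.span_singleton_le_iff_mem _).mpr ?_))
  · obtain ⟨c, hc⟩ := Ideal.mem_span_singleton'.mp (Ideal.Quotient.eq_zero_iff_mem.mp
      (show Ideal.Quotient.mk _ (ψ x) = 0 from hx))
    obtain ⟨c, rfl⟩ := hψ c
    rw [show x = (x - c * rename (Fin.castAdd m) α₀) + c * rename (Fin.castAdd m) α₀ by ring]
    refine add_mem (Ideal.mem_sup_left ?_)
      (Ideal.mem_sup_right (Ideal.mul_mem_left _ _ (Ideal.mem_span_singleton_self _)))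
    show φ (x - c * rename (Fin.castAdd m) α₀) = 0
    rw [map_sub, map_mul, hα, sub_eq_zero]
    exact (congrArg Subtype.val hc).symm
  · show Ideal.Quotient.mk _ (ψ x) = 0
    rw [show ψ x = 0 from Subtype.ext hx, map_zero]
  · exact Ideal.Quotient.eq_zero_iff_mem.mpr (Ideal.mem_span_singleton'.mpr
      ⟨1, Subtype.ext ((one_mul _).trans hα.symm)⟩)

/-- The chart is finitely presented once its exceptional divisor is flat and finitely presented. -/
theorem finitePresentation_chart [Algebra.FinitePresentation R T] (I : Ideal T) (hI : I.FG)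
    (a : T)
    (hQ : Algebra.FinitePresentation R (BlowUp.affineAlgebra T I a ⧸
      Ideal.span {algebraMap T (BlowUp.affineAlgebra T I a) a}))
    (hflat : Module.Flat R (BlowUp.affineAlgebra T I a ⧸
      Ideal.span {algebraMap T (BlowUp.affineAlgebra T I a) a})) :
    Algebra.FinitePresentation R (BlowUp.affineAlgebra T I a) := by
  classical
  obtain ⟨m, s, hs⟩ := Submodule.fg_iff_exists_fin_generating_family.mp hI
  replace hs : Ideal.span (Set.range s) = I := hs
  obtain ⟨n, f₀, hf₀, ⟨S₀, hS₀⟩⟩ := Algebra.FinitePresentation.out (R := R) (A := T)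
  obtain ⟨α₀, hα₀⟩ := hf₀ a
  choose σ hσ using fun i => hf₀ (s i)
  let ι : MvPolynomial (Fin n) R →ₐ[R] MvPolynomial (Fin (n + m)) R :=
    MvPolynomial.rename (Fin.castAdd m)
  let G : Finset (MvPolynomial (Fin (n + m)) R) :=
    S₀.image ι ∪ Finset.univ.image fun i => ι α₀ * X (Fin.natAdd n i) - ι (σ i)
  let J₀ : Ideal (MvPolynomial (Fin (n + m)) R) := Ideal.span ↑G
  have hle : J₀ ≤ RingHom.ker (chartHom f₀ a s).toRingHom := Ideal.span_le.mpr fun x hx => by
    rcases Finset.mem_union.mp hx with h | h <;> obtain ⟨y, hy, rfl⟩ := Finset.mem_image.mp h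
    · show chartHom f₀ a s (ι y) = 0
      rw [chartHom_rename, show f₀ y = 0 from hS₀.le (Submodule.subset_span hy), map_zero]
    · exact chartHom_rel f₀ a s σ α₀ hα₀ hσ y
  have hJ : ∀ x, f₀ x = 0 → ι x ∈ J₀ := fun x hx => by
    have : (RingHom.ker f₀.toRingHom).map ι.toRingHom ≤ J₀ := by
      rw [← hS₀, Ideal.map_span]
      refine Ideal.span_mono ?_
      rintro _ ⟨y, hy, rfl⟩
      exact Finset.mem_union_left _ (Finset.mem_image_of_mem _ hy)
    exact this (Ideal.mem_map_of_mem ι.toRingHom hx)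
  obtain ⟨ψ, hψ, hkψ, q, hq, hker⟩ := exists_chart_surjection hf₀ hs hα₀
  haveI := hQ
  have hK : (RingHom.ker (chartHom f₀ a s).toRingHom ⊔ Ideal.span {ι α₀}).FG :=
    hker ▸ by
      convert Algebra.FinitePresentation.ker_fG_of_surjective
        (B := BlowUp.affineAlgebra T I a ⧸ Ideal.span {algebraMap T (BlowUp.affineAlgebra T I a) a})
        q hq
  have hF : Module.Flat R (MvPolynomial (Fin (n + m)) R ⧸
      (RingHom.ker (chartHom f₀ a s).toRingHom ⊔ Ideal.span {ι α₀})) :=
    haveI := hflat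
    Module.Flat.of_linearEquiv ((Ideal.quotientEquivAlgOfEq R hker.symm).trans
      (Ideal.quotientKerAlgEquivOfSurjective hq)).toLinearEquiv
  obtain ⟨R₁, _, _, hN, -, α₁, -, hJ₁, -⟩ :=
    exists_descent (chartHom f₀ a s).toRingHom (ι α₀) J₀ ⟨G, rfl⟩ hle
      (exists_pow_mul_mem hα₀ hσ hJ fun i => Ideal.subset_span
        (Finset.mem_union_right _ (Finset.mem_image_of_mem _ (Finset.mem_univ i))))
      (chartHom_regular hα₀) hK hF
  haveI := hN
  exact Algebra.FinitePresentation.of_surjective hψ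
    (show (RingHom.ker ψ.toRingHom).FG from hkψ ▸ hJ₁ ▸ Ideal.FG.map (IsNoetherian.noetherian _) _)

theorem isSmoothAt_chart [Algebra.FinitePresentation R T] (I : Ideal T) (hI : I.FG) (a : T)
    (hQ : Algebra.FinitePresentation R (BlowUp.affineAlgebra T I a ⧸
      Ideal.span {algebraMap T (BlowUp.affineAlgebra T I a) a}))
    (hflat : Module.Flat R (BlowUp.affineAlgebra T I a ⧸
      Ideal.span {algebraMap T (BlowUp.affineAlgebra T I a) a}))
    (q' : Ideal (BlowUp.affineAlgebra T I a ⧸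
      Ideal.span {algebraMap T (BlowUp.affineAlgebra T I a) a})) [q'.IsPrime]
    [Algebra.IsSmoothAt (A := BlowUp.affineAlgebra T I a ⧸
      Ideal.span {algebraMap T (BlowUp.affineAlgebra T I a) a}) R q'] :
    ∃ h : BlowUp.affineAlgebra T I a, Ideal.Quotient.mk _ h ∉ q' ∧
      Algebra.Smooth R (Localization.Away h) := by
  haveI := finitePresentation_chart I hI a hQ hflat
  haveI := isSmoothAt_of_regular (R := R) (algebraMap T (BlowUp.affineAlgebra T I a) a)
    (mem_nonZeroDivisors_iff_right.mpr fun x hx => Subtype.ext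
      ((IsLocalization.Away.algebraMap_isUnit a).mul_left_eq_zero.mp (congrArg Subtype.val hx)))
    (q'.comap (Ideal.Quotient.mk _)) q' rfl
  obtain ⟨h, hh, hs⟩ := Algebra.IsSmoothAt.exists_notMem_smooth (R := R) (q'.comap (Ideal.Quotient.mk _))
  exact ⟨h, hh, hs⟩

end Groth.Agent.CartierFP
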