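import Groth.Agent.GrFlat5.AtPrime
import Mathlib

/-! A regular element with flat quotient: the algebra is flat along it. -/

set_option autoImplicit false
noncomputable section

namespace Groth.Agent.CartierFP

universe u

theorem flat_localized_of_regular {R B : Type u} [CommRing R] [CommRing B] [Algebra R B]
    [Algebra.FinitePresentation R B] (t : B) (ht : t ∈ nonZeroDivisors B)
    [Module.Flat R (B ⧸ Ideal.span {t})] (q : Ideal B) [q.IsPrime] (hq : t ∈ q) :
    Module.Flat R (LocalizedModule q.primeCompl B) := by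
  refine GrFlat5.flat_localized_of_forall_flat_quot (Ideal.span {t}) ⟨{t}, by simp⟩ ?_ q
    ((Ideal.span_singleton_le_iff_mem q).mpr hq)
  intro k
  induction k with
  | zero =>
    haveI : Subsingleton (B ⧸ (Ideal.span {t} ^ 0 • ⊤ : Submodule B B)) := by
      rw [Submodule.Quotient.subsingleton_iff, pow_zero, Submodule.one_smul]
    infer_instance
  | succ k ih =>
    have hm : ∀ j x, x ∈ (Ideal.span {t} ^ j • ⊤ : Submodule B B) ↔ ∃ c, c * t ^ j = x := fun j x => by
      rw [smul_eq_mul, Ideal.mul_top, Ideal.span_singleton_pow, Ideal.mem_span_singleton']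
    let f : (B ⧸ Ideal.span {t}) →ₗ[B] B ⧸ (Ideal.span {t} ^ (k + 1) • ⊤ : Submodule B B) :=
      Submodule.mapQ _ _ (LinearMap.mulLeft B (t ^ k)) (fun x hx => by
        obtain ⟨c, rfl⟩ := Ideal.mem_span_singleton'.mp hx
        exact (hm _ _).mpr ⟨c, by simp [pow_succ]; ring⟩)
    let g : (B ⧸ (Ideal.span {t} ^ (k + 1) • ⊤ : Submodule B B)) →ₗ[B]
        B ⧸ (Ideal.span {t} ^ k • ⊤ : Submodule B B) :=
      Submodule.factor (Submodule.smul_mono_left (Ideal.pow_le_pow_right k.le_succ))
    haveI := ih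
    refine GrFlat5.flat_of_exact (f := f.restrictScalars R) (g := g.restrictScalars R) ?_ ?_ ?_
    · rw [injective_iff_map_eq_zero]
      intro x hx
      obtain ⟨x, rfl⟩ := Submodule.Quotient.mk_surjective _ x
      obtain ⟨c, hc⟩ := (hm _ _).mp ((Submodule.Quotient.mk_eq_zero _).mp hx)
      refine (Submodule.Quotient.mk_eq_zero _).mpr (Ideal.mem_span_singleton'.mpr ⟨c, ?_⟩)
      have h0 : (c * t - x) * t ^ k = 0 := by
        rw [sub_mul, mul_assoc, ← pow_succ', hc]
        show t ^ k * x - x * t ^ k = 0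
        ring
      exact sub_eq_zero.mp ((mem_nonZeroDivisors_iff_right.mp (pow_mem ht k)) _ h0)
    · intro y
      obtain ⟨y, rfl⟩ := Submodule.Quotient.mk_surjective _ y
      constructor
      · intro hy
        obtain ⟨c, rfl⟩ := (hm _ _).mp ((Submodule.Quotient.mk_eq_zero _).mp hy)
        exact ⟨Submodule.Quotient.mk c, congrArg Submodule.Quotient.mk (mul_comm (t ^ k) c)⟩
      · rintro ⟨x, hx⟩
        obtain ⟨x, rfl⟩ := Submodule.Quotient.mk_surjective _ x
        rw [← hx]
        exact (Submodule.Quotient.mk_eq_zero _).mpr ((hm _ _).mpr ⟨x, mul_comm x (t ^ k)⟩)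
    · intro y
      obtain ⟨y, rfl⟩ := Submodule.Quotient.mk_surjective _ y
      exact ⟨Submodule.Quotient.mk y, rfl⟩

end Groth.Agent.CartierFP
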