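import Groth.Agent.FlatModel.Core
import Mathlib

/-! Relations saturated along an element with flat, finitely presented reduction are finitely generated. -/

set_option autoImplicit false
noncomputable section

namespace Groth.Agent.CartierFP

open MvPolynomial TensorProduct Groth.Agent.FlatModel

universe u

variable {R : Type u} [CommRing R] {n : ℕ}

theorem map_ker_vec {R₀ S : Type u} [CommRing R₀] [CommRing S] [Algebra R₀ S]
    (G : Set (MvPolynomial (Fin n) R₀))
    (K₀ : Submodule (MvPolynomial (Fin n) R₀) (V 1 n R₀))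
    (hK₀ : K₀ = Submodule.span _ ((fun g => (fun _ => g : V 1 n R₀)) '' G)) :
    (KK K₀ S).map (LinearMap.proj (0 : Fin 1)) =
      (Ideal.span (MvPolynomial.map (algebraMap R₀ S) '' G) : Submodule (MvPolynomial (Fin n) S) (MvPolynomial (Fin n) S)) := by
  refine le_antisymm ?_ (Submodule.span_le.mpr ?_)
  · rw [KK, Submodule.map_span, Submodule.span_le]
    rintro _ ⟨_, ⟨w, hw, rfl⟩, rfl⟩
    subst hK₀
    have := mapV_mem_span (algebraMap R₀ S) hw
    have h2 := Submodule.mem_map_of_mem (f := LinearMap.proj (φ := fun _ => MvPolynomial (Fin n) S) (0 : Fin 1)) this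
    rw [Submodule.map_span, Set.image_image, Set.image_image] at h2
    exact h2
  · rintro _ ⟨g, hg, rfl⟩
    exact ⟨mapV (algebraMap R₀ S) (fun _ => g),
      Submodule.subset_span ⟨_, hK₀ ▸ Submodule.subset_span ⟨g, hg, rfl⟩, rfl⟩, rfl⟩

/-- Descent of a finitely generated ideal with flat quotient to a noetherian subring. -/
theorem exists_flat_descent (T U : Set (MvPolynomial (Fin n) R)) (hT : T.Finite) (hU : U.Finite)
    (hflat : Module.Flat R (MvPolynomial (Fin n) R ⧸ Ideal.span T)) :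
    ∃ (R₁ : Type u) (_ : CommRing R₁) (_ : Algebra R₁ R), IsNoetherianRing R₁ ∧
      Function.Injective (algebraMap R₁ R) ∧
      T ∪ U ⊆ Set.range (MvPolynomial.map (algebraMap R₁ R)) ∧
      Module.Flat R₁ (MvPolynomial (Fin n) R₁ ⧸
        Ideal.span (MvPolynomial.map (algebraMap R₁ R) ⁻¹' T)) := by
  classical
  let c : Finset R := (hT.toFinset ∪ hU.toFinset).biUnion fun p => p.coeffs
  let R₀ : Subalgebra ℤ R := Algebra.adjoin ℤ (c : Set R)
  haveI : Algebra.FiniteType ℤ R₀ := (Subalgebra.fg_iff_finiteType R₀).1 (Subalgebra.fg_adjoin_finset c)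
  haveI : IsNoetherianRing R₀ := Algebra.FiniteType.isNoetherianRing ℤ R₀
  have hlift : ∀ p ∈ hT.toFinset ∪ hU.toFinset, ∃ q : MvPolynomial (Fin n) R₀,
      MvPolynomial.map (algebraMap R₀ R) q = p := fun p hp =>
    MvPolynomial.mem_range_map_iff_coeffs_subset.2 fun x hx =>
      ⟨⟨x, Algebra.subset_adjoin (Finset.mem_biUnion.2 ⟨p, hp, hx⟩)⟩, rfl⟩
  choose! l hl using hlift
  let G : Set (MvPolynomial (Fin n) R₀) := l '' T
  let K₀ : Submodule (MvPolynomial (Fin n) R₀) (V 1 n R₀) :=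
    Submodule.span _ ((fun g => (fun _ => g : V 1 n R₀)) '' G)
  have hGR : Ideal.span (MvPolynomial.map (algebraMap R₀ R) '' G) = Ideal.span T := by
    congr 1
    rw [Set.image_image]
    exact (Set.image_congr fun p hp => hl p (Finset.mem_union_left _ (hT.mem_toFinset.mpr hp))).trans
      (Set.image_id' _)
  have eq : ∀ (A : Type u) [CommRing A] [Algebra R₀ A], Nonempty ((V 1 n A ⧸ KK K₀ A) ≃ₗ[A]
      MvPolynomial (Fin n) A ⧸ Ideal.span (MvPolynomial.map (algebraMap R₀ A) '' G)) := fun A _ _ =>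
    ⟨(Submodule.Quotient.equiv (KK K₀ A) _ (LinearEquiv.funUnique (Fin 1) _ _)
      (map_ker_vec G K₀ rfl)).restrictScalars A⟩
  have hF : FlatC K₀ R := (flatC_iff_flat K₀).2 (by
    obtain ⟨e⟩ := eq R
    rw [hGR] at e
    haveI := hflat
    exact Module.Flat.of_linearEquiv e)
  obtain ⟨R₁, hR₁, hR₁F⟩ := exists_fg_flatC K₀ hF
  haveI : Algebra.FiniteType R₀ R₁ := (Subalgebra.fg_iff_finiteType R₁).1 hR₁
  haveI : IsNoetherianRing R₁ := Algebra.FiniteType.isNoetherianRing R₀ R₁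
  obtain ⟨e₁⟩ := eq R₁
  haveI := (flatC_iff_flat K₀).1 hR₁F
  have hmm : ∀ p ∈ T ∪ U,
      MvPolynomial.map (algebraMap R₁ R) (MvPolynomial.map (algebraMap R₀ R₁) (l p)) = p := fun p hp => by
    rw [MvPolynomial.map_map, ← IsScalarTower.algebraMap_eq]
    exact hl p (Finset.mem_union.mpr (hp.imp hT.mem_toFinset.mpr hU.mem_toFinset.mpr))
  refine ⟨R₁, inferInstance, inferInstance, inferInstance, Subtype.val_injective,
    fun p hp => ⟨_, hmm p hp⟩, ?_⟩
  have hpre : MvPolynomial.map (algebraMap R₁ R) ⁻¹' T = MvPolynomial.map (algebraMap R₀ R₁) '' G := by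
    ext x
    constructor
    · exact fun hx => ⟨l _, ⟨_, hx, rfl⟩,
        MvPolynomial.map_injective _ Subtype.val_injective (hmm _ (Or.inl hx))⟩
    · rintro ⟨_, ⟨p, hp, rfl⟩, rfl⟩
      show _ ∈ T
      rwa [hmm p (Or.inl hp)]
  rw [hpre]
  exact Module.Flat.of_linearEquiv e₁.symm

/-- The tensor description of the base change of a polynomial quotient. -/
theorem exists_tensor_maps {R₁ : Type u} [CommRing R₁] [Algebra R₁ R]
    (J : Ideal (MvPolynomial (Fin n) R₁)) :
    ∃ Φ : MvPolynomial (Fin n) R →+* R ⊗[R₁] (MvPolynomial (Fin n) R₁ ⧸ J),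
      (∀ q, Φ (MvPolynomial.map (algebraMap R₁ R) q) = (1 : R) ⊗ₜ[R₁] Ideal.Quotient.mk J q) ∧
      ∀ p, Φ p = 0 ↔ p ∈ J.map (MvPolynomial.map (algebraMap R₁ R)) := by
  let N := J.map (MvPolynomial.map (algebraMap R₁ R))
  let Φ : MvPolynomial (Fin n) R →ₐ[R] R ⊗[R₁] (MvPolynomial (Fin n) R₁ ⧸ J) :=
    MvPolynomial.aeval fun i => (1 : R) ⊗ₜ[R₁] Ideal.Quotient.mk J (X i)
  let m : MvPolynomial (Fin n) R₁ →ₐ[R₁] MvPolynomial (Fin n) R ⧸ N :=
    MvPolynomial.aeval fun i => Ideal.Quotient.mk N (X i)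
  have hm : ∀ q, m q = Ideal.Quotient.mk N (MvPolynomial.map (algebraMap R₁ R) q) := by
    intro q
    induction q using MvPolynomial.induction_on with
    | C r => simp only [m, aeval_C, MvPolynomial.map_C]; rfl
    | add p q hp hq => simp only [map_add, hp, hq]
    | mul_X p i hp => simp only [map_mul, hp, m, aeval_X, MvPolynomial.map_X]
  let Θ : R ⊗[R₁] (MvPolynomial (Fin n) R₁ ⧸ J) →ₐ[R] MvPolynomial (Fin n) R ⧸ N :=
    Algebra.TensorProduct.lift (Algebra.ofId R _)
      (Ideal.Quotient.liftₐ J m fun q hq => by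
        rw [hm]
        exact Ideal.Quotient.eq_zero_iff_mem.mpr (Ideal.mem_map_of_mem _ hq))
      fun _ _ => Commute.all _ _
  have h1 : ∀ q, Φ (MvPolynomial.map (algebraMap R₁ R) q) = (1 : R) ⊗ₜ[R₁] Ideal.Quotient.mk J q := by
    intro q
    induction q using MvPolynomial.induction_on with
    | C r =>
      show Φ _ = _
      rw [MvPolynomial.map_C]
      simp only [Φ, aeval_C]
      show (algebraMap R₁ R r) ⊗ₜ[R₁] (1 : MvPolynomial (Fin n) R₁ ⧸ J) = _
      rw [Algebra.algebraMap_eq_smul_one r, smul_tmul]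
      congr 1
      rw [← Algebra.algebraMap_eq_smul_one]
      rfl
    | add p q hp hq => simp only [map_add, hp, hq, tmul_add]
    | mul_X p i hp =>
      simp only [map_mul, hp, MvPolynomial.map_X]
      show _ * Φ (X i) = _
      simp [Φ]
  refine ⟨Φ.toRingHom, h1, fun p => ⟨fun hp => ?_, fun hp => ?_⟩⟩
  swap
  · induction hp using Submodule.span_induction with
    | mem x hx =>
      obtain ⟨y, hy, rfl⟩ := hx
      exact (h1 y).trans (by rw [Ideal.Quotient.eq_zero_iff_mem.mpr hy, tmul_zero])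
    | zero => exact map_zero Φ
    | add x y _ _ hx hy => exact (map_add Φ x y).trans ((congrArg₂ (· + ·) hx hy).trans (add_zero _))
    | smul a x _ hx =>
      rw [smul_eq_mul, map_mul]
      erw [hx]
      exact MulZeroClass.mul_zero (Φ a)
  · have hc : Θ.comp Φ = Ideal.Quotient.mkₐ R N := by
      ext i
      simp [Θ, Φ, hm]
    rw [← Ideal.Quotient.eq_zero_iff_mem]
    show Ideal.Quotient.mkₐ R N p = 0
    rw [← hc]
    show Θ (Φ p) = 0
    rw [show Φ p = 0 from hp, map_zero]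

/-- If `α₁` is regular modulo `J₁` with flat reduction, its image is regular modulo the extension. -/
theorem mem_map_of_pow_mul_mem {R₁ : Type u} [CommRing R₁] [Algebra R₁ R]
    (J₁ : Ideal (MvPolynomial (Fin n) R₁)) (α₁ : MvPolynomial (Fin n) R₁)
    (hreg₁ : ∀ x, α₁ * x ∈ J₁ → x ∈ J₁)
    (hflat : Module.Flat R₁ (MvPolynomial (Fin n) R₁ ⧸ (J₁ ⊔ Ideal.span {α₁})))
    (N : ℕ) (p : MvPolynomial (Fin n) R)
    (hN' : MvPolynomial.map (algebraMap R₁ R) α₁ ^ N * p ∈ J₁.map (MvPolynomial.map (algebraMap R₁ R))) :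
    p ∈ J₁.map (MvPolynomial.map (algebraMap R₁ R)) := by
  set μ : MvPolynomial (Fin n) R₁ →+* MvPolynomial (Fin n) R := MvPolynomial.map (algebraMap R₁ R)
    with hμ
  set α : MvPolynomial (Fin n) R := μ α₁ with hα₁
  haveI := hflat
  obtain ⟨Φ, hΦ, hker⟩ := exists_tensor_maps (R := R) J₁
  let g : MvPolynomial (Fin n) R₁ ⧸ J₁ →ₗ[R₁] MvPolynomial (Fin n) R₁ ⧸ J₁ :=
    LinearMap.mulLeft R₁ (Ideal.Quotient.mk J₁ α₁)
  let f : MvPolynomial (Fin n) R₁ ⧸ J₁ →ₗ[R₁]
      MvPolynomial (Fin n) R₁ ⧸ (J₁ ⊔ Ideal.span {α₁}) :=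
    (Ideal.Quotient.factorₐ R₁ le_sup_left).toLinearMap
  have hf : Function.Surjective f := Ideal.Quotient.factor_surjective le_sup_left
  have hg : Function.Injective g := by
    rw [injective_iff_map_eq_zero]
    intro x hx
    obtain ⟨x, rfl⟩ := Ideal.Quotient.mk_surjective x
    rw [Ideal.Quotient.eq_zero_iff_mem]
    exact hreg₁ x (Ideal.Quotient.eq_zero_iff_mem.mp ((map_mul _ _ _).trans hx))
  have hex : Function.Exact g f := by
    intro y
    obtain ⟨y, rfl⟩ := Ideal.Quotient.mk_surjective y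
    show Ideal.Quotient.mk (J₁ ⊔ Ideal.span {α₁}) y = 0 ↔ _
    rw [Ideal.Quotient.eq_zero_iff_mem]
    constructor
    · intro h
      obtain ⟨a, ha, b, hb, rfl⟩ := Submodule.mem_sup.mp h
      obtain ⟨c, rfl⟩ := Ideal.mem_span_singleton'.mp hb
      refine ⟨Ideal.Quotient.mk J₁ c, ?_⟩
      show Ideal.Quotient.mk J₁ α₁ * Ideal.Quotient.mk J₁ c = _
      rw [map_add, Ideal.Quotient.eq_zero_iff_mem.mpr ha, zero_add, map_mul, mul_comm]
    · rintro ⟨x, hx⟩
      obtain ⟨x, rfl⟩ := Ideal.Quotient.mk_surjective x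
      replace hx : Ideal.Quotient.mk J₁ (α₁ * x) = Ideal.Quotient.mk J₁ y := (map_mul _ _ _).trans hx
      rw [Ideal.Quotient.eq] at hx
      rw [show y = α₁ * x - (α₁ * x - y) by ring]
      exact sub_mem (Ideal.mem_sup_right (Ideal.mul_mem_right _ _ (Ideal.mem_span_singleton_self α₁)))
        (Ideal.mem_sup_left hx)
  have hinjR := LinearMap.lTensor_injective_of_exact_of_flat f hf g hg hex R
  have hmulT : ∀ t, g.lTensor R t = Φ α * t := by
    intro t
    induction t using TensorProduct.induction_on with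
    | zero => rw [map_zero]; exact (MulZeroClass.mul_zero (Φ α)).symm
    | tmul r x =>
      rw [hα₁, hΦ]
      simp [g]
    | add x y hx hy => rw [map_add, hx, hy]; exact (Distrib.left_distrib (Φ α) x y).symm
  have hreg : ∀ q, α * q ∈ J₁.map μ → q ∈ J₁.map μ := by
    intro q hqm
    apply (hker _).mp
    refine hinjR ((hmulT _).trans ?_)
    rw [← map_mul, map_zero]
    exact (hker _).mpr hqm
  induction N with
  | zero => simpa using hN'
  | succ N ih => exact ih (hreg _ (by rwa [← mul_assoc, ← pow_succ']))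

/-- A kernel which is the `α`-saturation of a finitely generated ideal, with flat finitely presented
reduction modulo `α`, descends to a noetherian subring. -/
theorem exists_descent {L : Type*} [CommRing L] (φ : MvPolynomial (Fin n) R →+* L)
    (α : MvPolynomial (Fin n) R) (J₀ : Ideal (MvPolynomial (Fin n) R)) (hJ₀ : J₀.FG)
    (hle : J₀ ≤ RingHom.ker φ) (hsat : ∀ p ∈ RingHom.ker φ, ∃ N : ℕ, α ^ N * p ∈ J₀)
    (hα : ∀ p, φ α * φ p = 0 → φ p = 0) (hK : (RingHom.ker φ ⊔ Ideal.span {α}).FG)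
    (hflat : Module.Flat R (MvPolynomial (Fin n) R ⧸ (RingHom.ker φ ⊔ Ideal.span {α}))) :
    ∃ (R₁ : Type u) (_ : CommRing R₁) (_ : Algebra R₁ R), IsNoetherianRing R₁ ∧
      Function.Injective (algebraMap R₁ R) ∧ ∃ α₁ : MvPolynomial (Fin n) R₁,
        MvPolynomial.map (algebraMap R₁ R) α₁ = α ∧
        ((RingHom.ker φ).comap (MvPolynomial.map (algebraMap R₁ R))).map
          (MvPolynomial.map (algebraMap R₁ R)) = RingHom.ker φ ∧
        Module.Flat R₁ (MvPolynomial (Fin n) R₁ ⧸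
          ((RingHom.ker φ).comap (MvPolynomial.map (algebraMap R₁ R)) ⊔ Ideal.span {α₁})) := by
  classical
  obtain ⟨S, hS⟩ := hK
  obtain ⟨S₀, hS₀⟩ := hJ₀
  have hdec : ∀ k ∈ S, ∃ j ∈ RingHom.ker φ, ∃ q, j + q * α = k := fun k hk => by
    obtain ⟨j, hj, t, ht, e⟩ := Submodule.mem_sup.mp
      (hS.le (Submodule.subset_span hk))
    obtain ⟨q, rfl⟩ := Ideal.mem_span_singleton'.mp ht
    exact ⟨j, hj, q, e⟩
  choose! j hj q hq using hdec
  let T : Set (MvPolynomial (Fin n) R) := insert α (j '' ↑S)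
  have hTK : Ideal.span T = RingHom.ker φ ⊔ Ideal.span {α} := by
    refine le_antisymm (Ideal.span_le.mpr (Set.insert_subset
      (Ideal.mem_sup_right (Ideal.mem_span_singleton_self α)) ?_)) ?_
    · rintro _ ⟨k, hk, rfl⟩
      exact Ideal.mem_sup_left (hj k hk)
    · rw [← hS, Submodule.span_le]
      intro k hk
      rw [← hq k hk]
      exact add_mem (Ideal.subset_span (Set.mem_insert_of_mem _ ⟨k, hk, rfl⟩))
        (Ideal.mul_mem_left _ _ (Ideal.subset_span (Set.mem_insert _ _)))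
  obtain ⟨R₁, _, _, hN, hinj, hTU, hflat₁⟩ := exists_flat_descent T ↑S₀
    ((S.finite_toSet.image j).insert α) S₀.finite_toSet (by rw [hTK]; exact hflat)
  haveI := hN
  obtain ⟨α₁, hα₁⟩ := hTU (Or.inl (Set.mem_insert _ _))
  set μ : MvPolynomial (Fin n) R₁ →+* MvPolynomial (Fin n) R := MvPolynomial.map (algebraMap R₁ R)
    with hμ
  set J₁ := (RingHom.ker φ).comap μ with hJ₁
  set K₁ := Ideal.span (μ ⁻¹' T) with hK₁
  have hKT : K₁.map μ = Ideal.span T := by
    rw [hK₁, Ideal.map_span, Set.image_preimage_eq_of_subset fun t ht => hTU (Or.inl ht)]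
  -- `K₁` is the contraction of `ker φ ⊔ (α)`
  have hcon : (RingHom.ker φ ⊔ Ideal.span {α}).comap μ ≤ K₁ := by
    intro x hx
    obtain ⟨Φ, hΦ, hker₁⟩ := exists_tensor_maps (R := R) K₁
    have h0 : Φ (μ x) = 0 := by
      exact (hker₁ _).mpr (by rw [hKT, hTK]; exact hx)
    rw [hΦ] at h0
    rw [← Ideal.Quotient.eq_zero_iff_mem]
    have hi : Function.Injective
        ((Algebra.linearMap R₁ R).rTensor (MvPolynomial (Fin n) R₁ ⧸ K₁)) :=
      Module.Flat.rTensor_preserves_injective_linearMap _ hinj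
    have h1 : (Algebra.linearMap R₁ R).rTensor _ ((1 : R₁) ⊗ₜ Ideal.Quotient.mk K₁ x) = 0 := by
      rw [LinearMap.rTensor_tmul]
      simpa using h0
    have h2 := hi (h1.trans (map_zero _).symm)
    simpa using congrArg (TensorProduct.lid R₁ _) h2
  have hKeq : J₁ ⊔ Ideal.span {α₁} = K₁ := by
    refine le_antisymm (le_trans (sup_le (Ideal.comap_mono le_sup_left)
      ((Ideal.span_singleton_le_iff_mem _).mpr ?_)) hcon) (Ideal.span_le.mpr fun x hx => ?_)
    · show μ α₁ ∈ RingHom.ker φ ⊔ Ideal.span {α}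
      rw [hα₁]
      exact Ideal.mem_sup_right (Ideal.mem_span_singleton_self α)
    · rcases (show μ x = α ∨ μ x ∈ j '' ↑S from hx) with h | ⟨k, hk, hkx⟩
      · exact Ideal.mem_sup_right (Ideal.mem_span_singleton.mpr
          (dvd_of_eq (MvPolynomial.map_injective _ hinj (h.trans hα₁.symm)).symm))
      · exact Ideal.mem_sup_left (show φ (μ x) = 0 by rw [← hkx]; exact hj k hk)
  have hflat' : Module.Flat R₁ (MvPolynomial (Fin n) R₁ ⧸ (J₁ ⊔ Ideal.span {α₁})) := by
    rw [hKeq]; exact hflat₁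
  refine ⟨R₁, inferInstance, inferInstance, hN, hinj, α₁, hα₁, ?_, hflat'⟩
  -- `α` is regular modulo `J₁ P`
  refine le_antisymm Ideal.map_comap_le fun p hp => ?_
  obtain ⟨N, hN'⟩ := hsat p hp
  refine mem_map_of_pow_mul_mem J₁ α₁ (fun x hx => ?_) hflat' N p ?_
  · show φ (μ x) = 0
    refine hα _ ?_
    rw [← hα₁, ← map_mul φ, ← map_mul μ]
    exact hx
  · rw [← hμ, hα₁]
    refine (?_ : J₀ ≤ J₁.map μ) hN'
    rw [← hS₀, Submodule.span_le]
    intro s hs
    obtain ⟨s₁, hs₁⟩ := hTU (Or.inr hs)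
    rw [← hs₁]
    exact Ideal.mem_map_of_mem _ (show φ (μ s₁) = 0 by
      rw [hs₁]; exact hle (hS₀.le (Submodule.subset_span hs)))

end Groth.Agent.CartierFP
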