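import Groth.Agent.CartierFP.Chart
import Groth.Agent.BlowUpLib.Glue
import Groth.Agent.BlowUpX.Basic
import Groth.Agent.ExcSmooth.Main
import Groth.Agent.LimSm.Descend

/-! Smoothness at generizations off the centre of a blow-up whose exceptional divisor is smooth. -/

set_option autoImplicit false
noncomputable section

namespace Groth.Agent.CartierFP

open CategoryTheory CategoryTheory.Limits AlgebraicGeometry TopologicalSpace Groth.Agent.BlowUpLib

universe u

theorem main {X X' S : Scheme.{u}} (g : X ⟶ S) [LocallyOfFinitePresentation g]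
    (𝓘 : X.IdealSheafData) [LocallyOfFinitePresentation (𝓘.subschemeι ≫ g)] [Flat (𝓘.subschemeι ≫ g)]
    (b : X' ⟶ X) (hb : BlowUp.IsBlowUp b 𝓘)
    (f : (BlowUp.exceptional b 𝓘).subscheme ⟶ 𝓘.subscheme)
    (hf : f ≫ 𝓘.subschemeι = (BlowUp.exceptional b 𝓘).subschemeι ≫ b)
    [Smooth f] (y : ↥𝓘.subscheme) (V : 𝓘.subscheme.Opens) (hyV : y ∈ V)
    [Smooth (V.ι ≫ 𝓘.subschemeι ≫ g)]
    (x₁ : ↥X) (hgen : x₁ ⤳ 𝓘.subschemeι y) (hx₁ : x₁ ∉ 𝓘.support) :
    ∃ W : X.Opens, x₁ ∈ W ∧ Smooth (W.ι ≫ g) := by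
  obtain ⟨_, ⟨U, hU, rfl⟩, hsU, -⟩ := S.isBasis_affineOpens.exists_subset_of_mem_open
    (Set.mem_univ (g (𝓘.subschemeι y))) isOpen_univ
  obtain ⟨_, ⟨W, hW, rfl⟩, hyW, hWU⟩ := X.isBasis_affineOpens.exists_subset_of_mem_open
    (show 𝓘.subschemeι y ∈ ((g ⁻¹ᵁ U : X.Opens) : Set X) from hsU) (g ⁻¹ᵁ U).isOpen
  let R := Γ(S, U)
  let T := Γ(X, W)
  algebraize [(g.appLE U W hWU).hom]
  haveI : Algebra.FinitePresentation R T := g.finitePresentation_appLE hU hW hWU
  have hstr : Spec.map (CommRingCat.ofHom (algebraMap R T)) ≫ hU.fromSpec = hW.fromSpec ≫ g :=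
    IsAffineOpen.SpecMap_appLE_fromSpec g hU hW hWU
  let I : Ideal T := 𝓘.ideal ⟨W, hW⟩
  -- the centre in the chart
  let ιI : Spec (CommRingCat.of (T ⧸ I)) ⟶ Spec (CommRingCat.of T) :=
    Spec.map (CommRingCat.ofHom (Ideal.Quotient.mk I))
  haveI : IsClosedImmersion ιI := IsClosedImmersion.spec_of_surjective _ Ideal.Quotient.mk_surjective
  have hIc : 𝓘.comap hW.fromSpec = ιI.ker := by
    rw [comap_fromSpec 𝓘 ⟨W, hW⟩, ExcSmooth.centre_eq_ker]
  have hleY : 𝓘.subschemeι.ker ≤ (ιI ≫ hW.fromSpec).ker := by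
    rw [Scheme.IdealSheafData.ker_subschemeι, ← Scheme.IdealSheafData.map_ker]
    exact Scheme.IdealSheafData.le_map_iff_comap_le.mpr hIc.le
  let e := IsClosedImmersion.lift 𝓘.subschemeι (ιI ≫ hW.fromSpec) hleY
  have he : e ≫ 𝓘.subschemeι = ιI ≫ hW.fromSpec := IsClosedImmersion.lift_fac _ _ _
  have sqY : IsPullback ιI e hW.fromSpec 𝓘.subschemeι :=
    isPullback_of_isClosedImmersion ιI _ e _ he.symm
      (by rw [Scheme.IdealSheafData.ker_subschemeι, hIc])
  haveI : IsOpenImmersion e :=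
    MorphismProperty.of_isPullback (P := @IsOpenImmersion) sqY inferInstance
  have hTI : Algebra.FinitePresentation R (T ⧸ I) := by
    have h : LocallyOfFinitePresentation
        (Spec.map (CommRingCat.ofHom ((Ideal.Quotient.mk I).comp (algebraMap R T)))) := by
      refine LimSm.of_comp_mono (P := @LocallyOfFinitePresentation) _ hU.fromSpec ?_
      rw [CommRingCat.ofHom_comp, Spec.map_comp, Category.assoc, hstr, ← reassoc_of% he]
      infer_instance
    have h' := (HasRingHomProperty.Spec_iff (P := @LocallyOfFinitePresentation)).mp h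
    exact RingHom.finitePresentation_algebraMap.mp h'
  have hI : I.FG := by
    have := Algebra.FinitePresentation.ker_fG_of_surjective (Ideal.Quotient.mkₐ R I)
      (Ideal.Quotient.mkₐ_surjective R I)
    rwa [show (Ideal.Quotient.mkₐ R I).toRingHom = Ideal.Quotient.mk I from rfl, Ideal.mk_ker] at this
  -- points
  have hx₁W : x₁ ∈ W := hgen.mem_open W.isOpen hyW
  let t₁ := hW.primeIdealOf ⟨x₁, hx₁W⟩
  let t₀ := hW.primeIdealOf ⟨𝓘.subschemeι y, hyW⟩
  have ht₁ : hW.fromSpec t₁ = x₁ := hW.fromSpec_primeIdealOf _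
  have ht₀ : hW.fromSpec t₀ = 𝓘.subschemeι y := hW.fromSpec_primeIdealOf _
  have ht : t₁ ⤳ t₀ := hW.fromSpec.isOpenEmbedding.isInducing.specializes_iff.mp
    (by rw [ht₁, ht₀]; exact hgen)
  have hsupp : ∀ t, t ∈ (centre I).support ↔ hW.fromSpec t ∈ 𝓘.support := fun t => by
    rw [← comap_fromSpec 𝓘 ⟨W, hW⟩, Scheme.IdealSheafData.support_comap]
    rfl
  have ht₁I : t₁ ∉ (centre I).support := fun h => hx₁ (ht₁ ▸ (hsupp _).mp h)
  haveI := isProper_toBase I hI
  let U₁ : (Spec (CommRingCat.of T)).Opens := (centre I).support.compl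
  haveI : IsIso (toBase I ∣_ U₁) := BlowUpX.isIso_restrict (isBlowUp_local I)
  let z : (toBase I ⁻¹ᵁ U₁).toScheme := inv (toBase I ∣_ U₁) ⟨t₁, ht₁I⟩
  have hz : (toBase I ∣_ U₁) z = ⟨t₁, ht₁I⟩ := by
    rw [← Scheme.Hom.comp_apply, IsIso.inv_hom_id]
    rfl
  have hbz : toBase I z.1 = t₁ := by
    show toBase I ((toBase I ⁻¹ᵁ U₁).ι z) = t₁
    rw [← Scheme.Hom.comp_apply, ← morphismRestrict_ι, Scheme.Hom.comp_apply, hz]
    rfl
  obtain ⟨p₀, hp₀, hbp⟩ : ∃ p₀, z.1 ⤳ p₀ ∧ toBase I p₀ = t₀ := by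
    have hc : IsClosed (toBase I '' closure {z.1}) := (toBase I).isClosedMap _ isClosed_closure
    have hsub : closure {t₁} ⊆ toBase I '' closure {z.1} :=
      hc.closure_subset_iff.mpr (Set.singleton_subset_iff.mpr ⟨z.1, subset_closure rfl, hbz⟩)
    obtain ⟨p₀, hp₀, hbp⟩ := hsub (specializes_iff_mem_closure.mp ht)
    exact ⟨p₀, specializes_iff_mem_closure.mpr hp₀, hbp⟩
  -- the chart
  obtain ⟨a, v, hv⟩ := chart_covers I p₀
  have H : IsPullback (pullback.snd b hW.fromSpec) (pullback.fst b hW.fromSpec) hW.fromSpec b :=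
    (IsPullback.of_hasPullback b hW.fromSpec).flip
  have hP : BlowUp.IsBlowUp (pullback.snd b hW.fromSpec) (centre I) := by
    have := isBlowUp_of_isPullback H hb
    rwa [comap_fromSpec 𝓘 ⟨W, hW⟩] at this
  obtain ⟨σ, hσ⟩ := exists_iso (isBlowUp_local I) hP
  let B := BlowUp.affineAlgebra T I (a : T)
  let K : Ideal B := Ideal.span {algebraMap T B (a : T)}
  have hK : I.map (algebraMap T B) = K := by
    refine le_antisymm (Ideal.map_le_iff_le_comap.mpr fun x hx => ?_)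
      ((Ideal.span_singleton_le_iff_mem _).mpr (Ideal.mem_map_of_mem _ a.2))
    exact Ideal.mem_span_singleton'.mpr ⟨frac I ⟨x, hx⟩ a, frac_mul I ⟨x, hx⟩ a⟩
  let c : Spec (CommRingCat.of B) ⟶ X' := chart I a ≫ σ.hom ≫ pullback.fst b hW.fromSpec
  have hc : c ≫ b = Spec.map (CommRingCat.ofHom (algebraMap T B)) ≫ hW.fromSpec := by
    simp only [c, Category.assoc]
    rw [pullback.condition, reassoc_of% hσ, chart_toBase_assoc]
  let E := BlowUp.exceptional b 𝓘
  let ιK : Spec (CommRingCat.of (B ⧸ K)) ⟶ Spec (CommRingCat.of B) :=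
    Spec.map (CommRingCat.ofHom (Ideal.Quotient.mk K))
  haveI : IsClosedImmersion ιK := IsClosedImmersion.spec_of_surjective _ Ideal.Quotient.mk_surjective
  have hEc : E.comap c = ιK.ker := by
    show (𝓘.comap b).comap c = _
    rw [← Scheme.IdealSheafData.comap_comp, hc, Scheme.IdealSheafData.comap_comp,
      comap_fromSpec 𝓘 ⟨W, hW⟩, ExcSmooth.comap_centre, hK, ExcSmooth.centre_eq_ker]
  have hleE : E.subschemeι.ker ≤ (ιK ≫ c).ker := by
    rw [Scheme.IdealSheafData.ker_subschemeι, ← Scheme.IdealSheafData.map_ker]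
    exact Scheme.IdealSheafData.le_map_iff_comap_le.mpr hEc.le
  let m := IsClosedImmersion.lift E.subschemeι (ιK ≫ c) hleE
  have hm : m ≫ E.subschemeι = ιK ≫ c := IsClosedImmersion.lift_fac _ _ _
  have sqE : IsPullback ιK m c E.subschemeι := isPullback_of_isClosedImmersion ιK _ m c hm.symm
    (by rw [Scheme.IdealSheafData.ker_subschemeι, hEc])
  haveI : IsOpenImmersion m := MorphismProperty.of_isPullback (P := @IsOpenImmersion) sqE inferInstance
  let k : Spec (CommRingCat.of (B ⧸ K)) ⟶ Spec (CommRingCat.of R) :=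
    Spec.map (CommRingCat.ofHom (algebraMap R (B ⧸ K)))
  have hB : Spec.map (CommRingCat.ofHom (algebraMap R B)) ≫ hU.fromSpec =
      Spec.map (CommRingCat.ofHom (algebraMap T B)) ≫ hW.fromSpec ≫ g := by
    rw [← hstr, ← Spec.map_comp_assoc]
    rfl
  have hk : k ≫ hU.fromSpec = (m ≫ f) ≫ 𝓘.subschemeι ≫ g := by
    rw [Category.assoc, reassoc_of% hf, reassoc_of% hm, reassoc_of% hc, ← hB, ← Spec.map_comp_assoc]
    rfl
  have hkF : Flat k := LimSm.of_comp_mono (P := @Flat) _ hU.fromSpec (by rw [hk]; infer_instance)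
  have hkP : LocallyOfFinitePresentation k :=
    LimSm.of_comp_mono (P := @LocallyOfFinitePresentation) _ hU.fromSpec (by rw [hk]; infer_instance)
  have hQF : Module.Flat R (B ⧸ K) :=
    RingHom.flat_algebraMap_iff.mp ((HasRingHomProperty.Spec_iff (P := @Flat)).mp hkF)
  have hQP : Algebra.FinitePresentation R (B ⧸ K) := RingHom.finitePresentation_algebraMap.mp
    ((HasRingHomProperty.Spec_iff (P := @LocallyOfFinitePresentation)).mp hkP)
  -- the point on the exceptional divisor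
  have hvb : (Spec.map (CommRingCat.ofHom (algebraMap T B))) v = t₀ := by
    rw [← chart_toBase, Scheme.Hom.comp_apply, hv, hbp]
  have hcv : c v ∈ Set.range E.subschemeι := by
    rw [Scheme.IdealSheafData.range_subschemeι, Scheme.IdealSheafData.support_comap]
    show b (c v) ∈ (𝓘.support : Set X)
    rw [← Scheme.Hom.comp_apply, hc, Scheme.Hom.comp_apply, hvb, ht₀,
      ← Scheme.IdealSheafData.range_subschemeι]
    exact Set.mem_range_self y
  obtain ⟨d, hd⟩ := hcv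
  obtain ⟨q, hqv, hqd⟩ := Scheme.Pullback.exists_preimage_pullback v d hd.symm
  let q₀ := sqE.isoPullback.inv q
  have hq₀v : ιK q₀ = v := by
    rw [← Scheme.Hom.comp_apply, sqE.isoPullback_inv_fst]
    exact hqv
  have hq₀V : q₀ ∈ (m ≫ f) ⁻¹ᵁ V := by
    show (m ≫ f) q₀ ∈ V
    have : (m ≫ f) q₀ = y := 𝓘.subschemeι.isClosedEmbedding.injective (by
      rw [← Scheme.Hom.comp_apply, Category.assoc, hf, reassoc_of% hm, hc,
        Scheme.Hom.comp_apply, Scheme.Hom.comp_apply, hq₀v, hvb, ht₀])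
    rwa [this]
  obtain ⟨_, ⟨_, ⟨h, rfl⟩, rfl⟩, hqh, hhV⟩ := PrimeSpectrum.isBasis_basic_opens.exists_subset_of_mem_open
    hq₀V ((m ≫ f) ⁻¹ᵁ V).isOpen
  let Qh := Localization.Away h
  let j : Spec (CommRingCat.of Qh) ⟶ Spec (CommRingCat.of (B ⧸ K)) :=
    Spec.map (CommRingCat.ofHom (algebraMap (B ⧸ K) Qh))
  haveI : IsOpenImmersion j := IsOpenImmersion.of_isLocalization h
  have hjr : Set.range (j ≫ m ≫ f) ⊆ Set.range V.ι := by
    rintro _ ⟨w, rfl⟩
    rw [Scheme.Opens.range_ι, Scheme.Hom.comp_apply]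
    refine hhV ?_
    exact (PrimeSpectrum.localization_away_comap_range Qh h).le ⟨w, rfl⟩
  have hjs : Smooth (Spec.map (CommRingCat.ofHom (algebraMap R Qh))) := by
    refine LimSm.of_comp_mono (P := @Smooth) _ hU.fromSpec ?_
    rw [show Spec.map (CommRingCat.ofHom (algebraMap R Qh)) = j ≫ k by rw [← Spec.map_comp]; rfl,
      Category.assoc, hk, Category.assoc, ← reassoc_of% IsOpenImmersion.lift_fac V.ι (j ≫ m ≫ f) hjr]
    have hl : Smooth (IsOpenImmersion.lift V.ι (j ≫ m ≫ f) hjr) :=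
      LimSm.of_comp_mono (P := @Smooth) _ V.ι (by rw [IsOpenImmersion.lift_fac]; infer_instance)
    infer_instance
  haveI hQh : Algebra.Smooth R Qh :=
    RingHom.smooth_algebraMap.mp ((HasRingHomProperty.Spec_iff (P := @Smooth)).mp hjs)
  haveI : Algebra.IsSmoothAt (A := B ⧸ K) R q₀.asIdeal := by
    haveI := hQP
    exact (Algebra.basicOpen_subset_smoothLocus_iff_smooth (R := R)).mpr hQh
      (show q₀ ∈ PrimeSpectrum.basicOpen h from hqh)
  obtain ⟨h₁, hh₁, hsm⟩ := isSmoothAt_chart (R := R) I hI (a : T) hQP hQF q₀.asIdeal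
  -- the smooth chart
  let Bh := Localization.Away h₁
  let j₁ : Spec (CommRingCat.of Bh) ⟶ localBlowUp I :=
    Spec.map (CommRingCat.ofHom (algebraMap B Bh)) ≫ chart I a
  haveI : IsOpenImmersion (Spec.map (CommRingCat.ofHom (algebraMap B Bh))) :=
    IsOpenImmersion.of_isLocalization h₁
  have hj₁ : Smooth (j₁ ≫ toBase I ≫ hW.fromSpec ≫ g) := by
    have hs : Smooth (Spec.map (CommRingCat.ofHom (algebraMap R Bh))) :=
      (HasRingHomProperty.Spec_iff (P := @Smooth)).mpr (RingHom.smooth_algebraMap.mpr hsm)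
    simp only [j₁, Category.assoc]
    rw [chart_toBase_assoc, ← hB, ← Spec.map_comp_assoc, ← CommRingCat.ofHom_comp,
      ← IsScalarTower.algebraMap_eq R B Bh]
    infer_instance
  obtain ⟨w₀, hw₀⟩ : ∃ w, j₁ w = z.1 := by
    have hp₀r : p₀ ∈ j₁.opensRange := by
      have hvh : v ∈ PrimeSpectrum.basicOpen h₁ := by
        rw [← hq₀v]
        exact hh₁
      obtain ⟨w, hw⟩ := (PrimeSpectrum.localization_away_comap_range Bh h₁).ge hvh
      refine ⟨w, ?_⟩
      show chart I a (Spec.map (CommRingCat.ofHom (algebraMap B Bh)) w) = p₀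
      exact (congrArg (chart I a) hw).trans hv
    exact hp₀.mem_open j₁.opensRange.isOpen hp₀r
  let N : (Spec (CommRingCat.of Bh)).Opens := (j₁ ≫ toBase I) ⁻¹ᵁ U₁
  have hNr : Set.range (N.ι ≫ j₁) ⊆ Set.range (toBase I ⁻¹ᵁ U₁).ι := by
    rintro _ ⟨w, rfl⟩
    rw [Scheme.Opens.range_ι]
    exact w.2
  let n := N.ι ≫ j₁ ≫ toBase I ≫ hW.fromSpec
  haveI : IsOpenImmersion n := by
    have hn : n = IsOpenImmersion.lift (toBase I ⁻¹ᵁ U₁).ι (N.ι ≫ j₁) hNr ≫ (toBase I ∣_ U₁) ≫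
        U₁.ι ≫ hW.fromSpec := by
      rw [morphismRestrict_ι_assoc, IsOpenImmersion.lift_fac_assoc]
      simp [n]
    haveI : IsOpenImmersion (IsOpenImmersion.lift (toBase I ⁻¹ᵁ U₁).ι (N.ι ≫ j₁) hNr) :=
      LimSm.of_comp_mono (P := @IsOpenImmersion) _ (toBase I ⁻¹ᵁ U₁).ι
        (by rw [IsOpenImmersion.lift_fac]; infer_instance)
    rw [hn]
    infer_instance
  have hw₀N : w₀ ∈ N := by
    show toBase I (j₁ w₀) ∈ U₁
    rw [hw₀, hbz]
    exact ht₁I
  refine ⟨n.opensRange, ⟨⟨w₀, hw₀N⟩, ?_⟩, ?_⟩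
  · show hW.fromSpec (toBase I (j₁ w₀)) = x₁
    rw [hw₀, hbz, ht₁]
  · rw [← Scheme.Hom.isoOpensRange_inv_comp n, Category.assoc]
    haveI : Smooth (n ≫ g) := by
      simp only [n, Category.assoc]
      infer_instance
    infer_instance

end Groth.Agent.CartierFP
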