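import Groth.Agent.GrFlat5.AtPrime
import Groth.Agent.BlowAlgX.Map
import Groth.Prelude.Def_BlowUp2
import Mathlib

/-! The exceptional divisor of a blow-up chart is the colimit of the graded pieces of the ideal. -/

set_option autoImplicit false
noncomputable section

namespace Groth.Agent.CartierFP

open TensorProduct IsLocalization

universe u

/-- The kernel of a surjection of flat modules is flat. -/
theorem flat_of_exact_left {R M₁ M₂ M₃ : Type u} [CommRing R] [AddCommGroup M₁] [Module R M₁]
    [AddCommGroup M₂] [Module R M₂] [AddCommGroup M₃] [Module R M₃] [Module.Flat R M₂] [Module.Flat R M₃]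
    {f : M₁ →ₗ[R] M₂} {g : M₂ →ₗ[R] M₃} (hf : Function.Injective f) (hfg : Function.Exact f g)
    (hg : Function.Surjective g) : Module.Flat R M₁ := by
  rw [Module.Flat.iff_rTensor_injective]
  intro I _
  have h1 : Function.Injective ((f.lTensor R).comp (I.subtype.rTensor M₁)) := by
    rw [LinearMap.lTensor_comp_rTensor, ← LinearMap.rTensor_comp_lTensor, LinearMap.coe_comp]
    exact (Module.Flat.rTensor_preserves_injective_linearMap I.subtype Subtype.val_injective).comp
      (LinearMap.lTensor_injective_of_exact_of_flat g hg f hf hfg I)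
  rw [LinearMap.coe_comp] at h1
  exact h1.of_comp

/-- A filtered union of flat modules along compatible maps is flat. -/
theorem flat_of_colimit {Q : Type u} [CommRing Q] {N : Type u} [AddCommGroup N] [Module Q N]
    (M : ℕ → Type u) [∀ n, AddCommGroup (M n)] [∀ n, Module Q (M n)] [∀ n, Module.Flat Q (M n)]
    (t : ∀ n, M n →ₗ[Q] M (n + 1)) (π : ∀ n, M n →ₗ[Q] N)
    (hπ : ∀ n x, π (n + 1) (t n x) = π n x) (hsurj : ∀ y, ∃ n x, π n x = y)
    (hker : ∀ n x, π n x = 0 → ∃ k, ∃ h : n ≤ k,
      (Nat.leRecOn h (fun {j} (z : M j) => t j z) x : M k) = 0) :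
    Module.Flat Q N := by
  classical
  rw [Module.Flat.iff_forall_isTrivialRelation]
  intro l c x hx
  let T : ∀ {n k : ℕ}, n ≤ k → M n → M k := fun h => Nat.leRecOn h fun {j} (z : M j) => t j z
  have Tπ : ∀ {n k : ℕ} (h : n ≤ k) (z : M n), π k (T h z) = π n z := by
    intro n k h z
    induction h with
    | refl => simp [T, Nat.leRecOn_self]
    | @step k h ih => simp only [T, Nat.leRecOn_succ h, hπ]; exact ih
  have Tlin : ∀ {n k : ℕ} (h : n ≤ k), ∃ L : M n →ₗ[Q] M k, ∀ z, T h z = L z := by
    intro n k h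
    induction h with
    | refl => exact ⟨LinearMap.id, fun z => by simp [T, Nat.leRecOn_self]⟩
    | @step k h ih =>
      obtain ⟨L, hL⟩ := ih
      exact ⟨(t k).comp L, fun z => by simp only [T, Nat.leRecOn_succ h]; exact congrArg (t k) (hL z)⟩
  -- lift the elements to a common stage
  choose ν z hz using fun i => hsurj (x i)
  let n := Finset.univ.sup ν
  let y : Fin l → M n := fun i => T (Finset.le_sup (Finset.mem_univ i)) (z i)
  have hy : ∀ i, π n (y i) = x i := fun i => (Tπ _ _).trans (hz i)
  obtain ⟨k, hk, hk0⟩ := hker n (∑ i, c i • y i) (by simp [map_sum, hy, hx])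
  obtain ⟨L, hL⟩ := Tlin hk
  have h0 : ∑ i, c i • L (y i) = 0 := by
    have := (hL (∑ i, c i • y i)).symm.trans hk0
    simpa [map_sum] using this
  obtain ⟨m, a, w, hw, ha⟩ := Module.Flat.isTrivialRelation_of_sum_smul_eq_zero h0
  refine ⟨m, a, fun j => π k (w j), fun i => ?_, ha⟩
  rw [← hy i, ← Tπ hk, hL, show L (y i) = _ from hw i, map_sum]
  simp

variable {T : Type u} [CommRing T] (I : Ideal T)

/-- The graded piece `Iⁿ/Iⁿ⁺¹`. -/
abbrev piece (n : ℕ) : Type u :=
  ↥(I ^ n • (⊤ : Submodule T T)) ⧸ (I • (⊤ : Submodule T ↥(I ^ n • (⊤ : Submodule T T))))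

theorem piece_eq (n : ℕ) : (I • (⊤ : Submodule T ↥(I ^ n • (⊤ : Submodule T T)))) =
    Submodule.comap (I ^ n • (⊤ : Submodule T T)).subtype (I ^ (n + 1) • ⊤) := by
  ext x
  rw [Submodule.mem_smul_top_iff, Submodule.mem_comap, pow_succ', Submodule.mul_smul]
  rfl

/-- Comparison with the other normalisation of the graded pieces. -/
noncomputable def pieceEquiv (n : ℕ) : piece I n ≃ₗ[T] GrFlat5.grPiece I T n :=
  Submodule.quotEquivOfEq _ _ (piece_eq I n)

theorem flat_piece_of_flat_quot {R : Type u} [CommRing R] [Algebra R T]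
    (h : ∀ k, Module.Flat R (T ⧸ (I ^ k • ⊤ : Submodule T T))) (n : ℕ) : Module.Flat R (piece I n) := by
  haveI := h n
  haveI := h (n + 1)
  haveI : Module.Flat R (GrFlat5.grPiece I T n) :=
    flat_of_exact_left (f := (GrFlat5.grIncl I T n).restrictScalars R)
      (g := (GrFlat5.quotProj I T n).restrictScalars R)
      (GrFlat5.grIncl_injective I T n) (GrFlat5.exact_gr I T n) (GrFlat5.quotProj_surjective I T n)
  exact Module.Flat.of_linearEquiv ((pieceEquiv I n).restrictScalars R)

theorem flat_quot_of_flat_piece {R : Type u} [CommRing R] [Algebra R T]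
    (h : ∀ n, Module.Flat R (piece I n)) (k : ℕ) : Module.Flat R (T ⧸ (I ^ k • ⊤ : Submodule T T)) := by
  refine GrFlat5.flat_quot_of_gr I (fun n => ?_) k
  haveI := h n
  exact Module.Flat.of_linearEquiv ((pieceEquiv I n).restrictScalars R).symm

variable (a : T) (ha : a ∈ I)

/-- The exceptional divisor of the chart. -/
abbrev excQuot : Type u :=
  BlowUp.affineAlgebra T I a ⧸ Ideal.span {algebraMap T (BlowUp.affineAlgebra T I a) a}

include ha in
theorem exists_colimit :
    ∃ (t : ∀ n, piece I n →ₗ[T] piece I (n + 1)) (π : ∀ n, piece I n →ₗ[T] excQuot I a),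
      (∀ n x, π (n + 1) (t n x) = π n x) ∧ (∀ y, ∃ n x, π n x = y) ∧
      (∀ n x, π n x = 0 → ∃ k, ∃ h : n ≤ k,
        (Nat.leRecOn h (fun {j} (z : piece I j) => t j z) x : piece I k) = 0) := by
  let B := BlowUp.affineAlgebra T I a
  let L := Localization.Away a
  let iv : L := Away.invSelf a
  have hiv : algebraMap T L a * iv = 1 := Away.mul_invSelf a
  have hmem : ∀ n, ∀ x ∈ I ^ n • (⊤ : Submodule T T), algebraMap T L x * iv ^ n ∈ B := fun n x hx =>
    BlowUpLib.mul_invSelf_pow_mem I ⟨a, ha⟩ n x (by simpa using hx)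
  let p : ∀ n, ↥(I ^ n • (⊤ : Submodule T T)) →ₗ[T] excQuot I a := fun n =>
    { toFun := fun x => Ideal.Quotient.mk _ ⟨algebraMap T L x * iv ^ n, hmem n x x.2⟩
      map_add' := fun x y => by
        rw [← map_add]
        congr 1
        exact Subtype.ext (by simp [add_mul])
      map_smul' := fun r x => by
        show Ideal.Quotient.mk _ _ = r • Ideal.Quotient.mk _ _
        rw [← Ideal.Quotient.mkₐ_eq_mk T, ← map_smul]
        congr 1
        refine Subtype.ext ?_
        show algebraMap T L (r * x.1) * iv ^ n = r • (algebraMap T L x.1 * iv ^ n)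
        rw [map_mul, mul_assoc]
        exact (Algebra.smul_def _ _).symm }
  have hp : ∀ n, I • (⊤ : Submodule T ↥(I ^ n • (⊤ : Submodule T T))) ≤ LinearMap.ker (p n) := by
    intro n
    rw [Submodule.smul_le]
    intro r hr x _
    show Ideal.Quotient.mk _ _ = 0
    rw [Ideal.Quotient.eq_zero_iff_mem, Ideal.mem_span_singleton']
    refine ⟨⟨algebraMap T L r * iv, by simpa using hmem 1 r (by simpa using hr)⟩ *
      ⟨algebraMap T L x * iv ^ n, hmem n x x.2⟩, Subtype.ext ?_⟩
    show algebraMap T L r * iv * (algebraMap T L x * iv ^ n) * algebraMap T L a =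
      algebraMap T L (r * x) * iv ^ n
    rw [map_mul]
    linear_combination (algebraMap T L r * algebraMap T L x * iv ^ n) * hiv
  have hmul : ∀ n, ∀ x ∈ I ^ n • (⊤ : Submodule T T), a * x ∈ I ^ (n + 1) • (⊤ : Submodule T T) :=
    fun n x hx => by
      simp only [smul_eq_mul, Ideal.mul_top] at hx ⊢
      rw [pow_succ']
      exact Ideal.mul_mem_mul ha hx
  let τ : ∀ n, ↥(I ^ n • (⊤ : Submodule T T)) →ₗ[T] ↥(I ^ (n + 1) • (⊤ : Submodule T T)) := fun n =>
    { toFun := fun x => ⟨a * x, hmul n x x.2⟩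
      map_add' := fun x y => Subtype.ext (mul_add a _ _)
      map_smul' := fun r x => Subtype.ext (mul_left_comm a r _) }
  let t : ∀ n, piece I n →ₗ[T] piece I (n + 1) := fun n =>
    Submodule.mapQ _ _ (τ n) (Submodule.smul_le.mpr fun r hr x _ => by
      rw [Submodule.mem_comap, map_smul]
      exact Submodule.smul_mem_smul hr Submodule.mem_top)
  let π : ∀ n, piece I n →ₗ[T] excQuot I a := fun n => Submodule.liftQ _ (p n) (hp n)
  refine ⟨t, π, fun n x => ?_, fun y => ?_, fun n x hx => ?_⟩
  · obtain ⟨x, rfl⟩ := Submodule.Quotient.mk_surjective _ x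
    show Ideal.Quotient.mk _ _ = Ideal.Quotient.mk _ _
    congr 1
    refine Subtype.ext ?_
    show algebraMap T L (a * x.1) * iv ^ (n + 1) = algebraMap T L x.1 * iv ^ n
    rw [map_mul, pow_succ]
    linear_combination (algebraMap T L x.1 * iv ^ n) * hiv
  · obtain ⟨q, rfl⟩ := Ideal.Quotient.mk_surjective y
    obtain ⟨n, x, hx, hq⟩ := BlowAlgX.exists_eq I a ha q.2
    refine ⟨n, Submodule.Quotient.mk ⟨x, by simpa using hx⟩, ?_⟩
    show Ideal.Quotient.mk _ _ = _
    congr 1
    refine Subtype.ext ?_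
    show algebraMap T L x * iv ^ n = q.1
    rw [← hq, map_pow, mul_assoc, ← mul_pow, hiv, one_pow, mul_one]
  · obtain ⟨x, rfl⟩ := Submodule.Quotient.mk_surjective _ x
    obtain ⟨b, hb⟩ := Ideal.mem_span_singleton'.mp (Ideal.Quotient.eq_zero_iff_mem.mp hx)
    obtain ⟨m, y, hy, hby⟩ := BlowAlgX.exists_eq I a ha b.2
    have hb' : (b : L) * algebraMap T L a = algebraMap T L x.1 * iv ^ n := congrArg Subtype.val hb
    have key : algebraMap T L (a ^ m * x.1) = algebraMap T L (a ^ (n + 1) * y) := by
      simp only [map_mul, map_pow] at hby ⊢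
      have h1 : algebraMap T L a ^ n * iv ^ n = 1 := by rw [← mul_pow, hiv, one_pow]
      linear_combination (-(algebraMap T L a ^ m * algebraMap T L x.1)) * h1
        - (algebraMap T L a ^ m * algebraMap T L a ^ n) * hb'
        + (algebraMap T L a ^ (n + 1)) * hby
    obtain ⟨⟨_, N, rfl⟩, hN⟩ := (IsLocalization.eq_iff_exists (Submonoid.powers a) L).mp key
    have iter : ∀ j (h : n ≤ n + j), ∃ hm : a ^ j * x.1 ∈ I ^ (n + j) • (⊤ : Submodule T T),
        (Nat.leRecOn h (fun {i} (z : piece I i) => t i z) (Submodule.Quotient.mk x) : piece I (n + j)) =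
          Submodule.Quotient.mk ⟨a ^ j * x.1, hm⟩ := by
      intro j
      induction j with
      | zero =>
        intro h
        refine ⟨by simpa using x.2, ?_⟩
        rw [Nat.leRecOn_self]
        exact congrArg Submodule.Quotient.mk (Subtype.ext (by simp))
      | succ j ih =>
        intro h
        obtain ⟨hm, e⟩ := ih (Nat.le_add_right n j)
        have hmm : a ^ (j + 1) * x.1 ∈ I ^ (n + (j + 1)) • (⊤ : Submodule T T) := by
          rw [pow_succ', mul_assoc]
          exact hmul _ _ hm
        refine ⟨hmm, ?_⟩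
        refine (Nat.leRecOn_succ (C := piece I) (n := n) (m := n + j) (Nat.le_add_right n j)
          (h2 := Nat.le_succ_of_le (Nat.le_add_right n j))
          (next := fun {i} (z : piece I i) => t i z) (Submodule.Quotient.mk x)).trans ?_
        rw [e]
        exact congrArg Submodule.Quotient.mk (Subtype.ext (by
          show a * (a ^ j * x.1) = a ^ (j + 1) * x.1
          rw [pow_succ', mul_assoc]))
    refine ⟨n + (m + N), Nat.le_add_right _ _, ?_⟩
    obtain ⟨hm, e⟩ := iter (m + N) (Nat.le_add_right _ _)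
    rw [e, Submodule.Quotient.mk_eq_zero, piece_eq, Submodule.mem_comap]
    show a ^ (m + N) * x.1 ∈ I ^ (n + (m + N) + 1) • (⊤ : Submodule T T)
    have : a ^ (m + N) * x.1 = a ^ (n + 1 + N) * y := by
      rw [pow_add a m N, pow_add a (n + 1) N]
      linear_combination hN
    rw [this, smul_eq_mul, Ideal.mul_top, show n + (m + N) + 1 = n + 1 + N + m by ring, pow_add]
    exact Ideal.mul_mem_mul (Ideal.pow_mem_pow ha _) hy

include ha in
theorem flat_excQuot {R : Type u} [CommRing R] [Algebra R T] (h : ∀ n, Module.Flat R (piece I n)) :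
    Module.Flat R (excQuot I a) := by
  obtain ⟨t, π, h1, h2, h3⟩ := exists_colimit I a ha
  exact flat_of_colimit (piece I) (fun n => (t n).restrictScalars R) (fun n => (π n).restrictScalars R) h1 h2 h3

end Groth.Agent.CartierFP
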