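import Groth.Agent.CartierFP.Chart
import Groth.Agent.CartierFP.Pieces
import Groth.Agent.CartierFP.FlatAlong

/-! Blow-up charts along an ideal with flat powers are finitely presented and flat along the centre. -/

set_option autoImplicit false
noncomputable section

namespace Groth.Agent.CartierFP

open MvPolynomial TensorProduct Groth.Agent.FlatModel

universe u

variable {R T : Type u} [CommRing R] [CommRing T] [Algebra R T]

theorem quotEquiv {R₀ A : Type u} [CommRing R₀] [CommRing A] [Algebra R₀ A] {n : ℕ}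
    (G : Set (MvPolynomial (Fin n) R₀)) (J : Ideal (MvPolynomial (Fin n) R₀)) (k : ℕ) :
    Nonempty ((V 1 n A ⧸ KK (GrFlat5.L (Submodule.span (MvPolynomial (Fin n) R₀)
        ((fun g => (fun _ => g : V 1 n R₀)) '' G)) J k) A) ≃ₗ[A]
      MvPolynomial (Fin n) A ⧸ (Ideal.span (MvPolynomial.map (algebraMap R₀ A) '' G) ⊔
        GrFlat5.JR J A ^ k)) := by
  refine ⟨(Submodule.Quotient.equiv _ _ (LinearEquiv.funUnique (Fin 1) _ _) ?_).restrictScalars A⟩
  rw [GrFlat5.KK_L, Submodule.map_sup, Submodule.map_smul'', Submodule.map_top, LinearEquiv.range,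
    smul_eq_mul, Ideal.mul_top]
  congr 1
  exact map_ker_vec G _ rfl

/-- A chart is finitely presented given a model over a noetherian ring with flat powers. -/
theorem finitePresentation_chart_of_model {n m : ℕ} {R₁ : Type u} [CommRing R₁] [IsNoetherianRing R₁]
    [Algebra R₁ R] (f₀ : MvPolynomial (Fin n) R →ₐ[R] T) (hf₀ : Function.Surjective f₀)
    (I : Ideal T) (a : T) (s : Fin m → T) (hs : Ideal.span (Set.range s) = I)
    (σ : Fin m → MvPolynomial (Fin n) R) (hσ : ∀ i, f₀ (σ i) = s i)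
    (α₀ : MvPolynomial (Fin n) R) (hα₀ : f₀ α₀ = a)
    (G₁ : Ideal (MvPolynomial (Fin n) R₁))
    (hG₁ : G₁.map (MvPolynomial.map (algebraMap R₁ R)) = RingHom.ker f₀.toRingHom)
    (σ₁ : Fin m → MvPolynomial (Fin n) R₁)
    (hμσ : ∀ i, MvPolynomial.map (algebraMap R₁ R) (σ₁ i) = σ i)
    (α₁ : MvPolynomial (Fin n) R₁) (hμα : MvPolynomial.map (algebraMap R₁ R) α₁ = α₀)
    (hα₁ : α₁ ∈ Ideal.span (Set.range σ₁))
    (hflat : ∀ k, Module.Flat R₁ (MvPolynomial (Fin n) R₁ ⧸ (G₁ ⊔ Ideal.span (Set.range σ₁) ^ k))) :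
    Algebra.FinitePresentation R (BlowUp.affineAlgebra T I a) := by
  set μ₀ : MvPolynomial (Fin n) R₁ →+* MvPolynomial (Fin n) R := MvPolynomial.map (algebraMap R₁ R)
  let f₁ : MvPolynomial (Fin n) R₁ →ₐ[R₁] MvPolynomial (Fin n) R₁ ⧸ G₁ := Ideal.Quotient.mkₐ R₁ G₁
  let I₁ : Ideal (MvPolynomial (Fin n) R₁ ⧸ G₁) := Ideal.span (Set.range fun i => f₁ (σ₁ i))
  have hI₁0 : (Ideal.span (Set.range σ₁)).map (Ideal.Quotient.mkₐ R₁ G₁) = I₁ := by
    rw [Ideal.map_span, ← Set.range_comp]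
    rfl
  have ha₁ : f₁ α₁ ∈ I₁ := hI₁0 ▸ Ideal.mem_map_of_mem _ hα₁
  have hflat₁ : ∀ k, Module.Flat R₁ ((MvPolynomial (Fin n) R₁ ⧸ G₁) ⧸ (I₁ ^ k • ⊤ :
      Submodule (MvPolynomial (Fin n) R₁ ⧸ G₁) (MvPolynomial (Fin n) R₁ ⧸ G₁))) := fun k => by
    haveI := hflat k
    have hI₁ : (Ideal.span (Set.range σ₁) ^ k).map (Ideal.Quotient.mkₐ R₁ G₁) =
        (I₁ ^ k • ⊤ : Ideal (MvPolynomial (Fin n) R₁ ⧸ G₁)) := by
      rw [smul_eq_mul, Ideal.mul_top, Ideal.map_pow, hI₁0]
    exact Module.Flat.of_linearEquiv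
      ((Ideal.quotientEquivAlgOfEq R₁ hI₁.symm).trans
        (DoubleQuot.quotQuotEquivQuotSupₐ R₁ G₁ (Ideal.span (Set.range σ₁) ^ k))).toLinearEquiv
  -- the chart over the model
  let s₁ : Fin m → MvPolynomial (Fin n) R₁ ⧸ G₁ := fun i => f₁ (σ₁ i)
  obtain ⟨-, -, -, q₁, hq₁, hker₁⟩ := exists_chart_surjection (R := R₁) (f₀ := f₁) (a := f₁ α₁) (s := s₁)
    (α₀ := α₁) (I := I₁) Ideal.Quotient.mk_surjective rfl rfl
  set φ₁ := chartHom f₁ (f₁ α₁) s₁ with hφ₁
  set φ := chartHom f₀ a s with hφ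
  set μ : MvPolynomial (Fin (n + m)) R₁ →+* MvPolynomial (Fin (n + m)) R :=
    MvPolynomial.map (algebraMap R₁ R)
  have hμr : ∀ p, μ (rename (Fin.castAdd m) p) = rename (Fin.castAdd m) (μ₀ p) := fun p =>
    MvPolynomial.map_rename _ _ p
  have hflatq : Module.Flat R₁ (MvPolynomial (Fin (n + m)) R₁ ⧸
      (RingHom.ker φ₁.toRingHom ⊔ Ideal.span {rename (Fin.castAdd m) α₁})) :=
    haveI := flat_excQuot I₁ (f₁ α₁) ha₁ (flat_piece_of_flat_quot I₁ hflat₁)
    Module.Flat.of_linearEquiv ((Ideal.quotientEquivAlgOfEq R₁ hker₁.symm).trans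
      (Ideal.quotientKerAlgEquivOfSurjective hq₁)).toLinearEquiv
  -- comparison of the two presentations
  let τ : MvPolynomial (Fin n) R₁ ⧸ G₁ →+* T := Ideal.Quotient.lift G₁ (f₀.toRingHom.comp μ₀) fun x hx => by
    exact hG₁.le (Ideal.mem_map_of_mem μ₀ hx)
  have hτ : ∀ p, τ (f₁ p) = f₀ (μ₀ p) := fun p => rfl
  have hτa : τ (f₁ α₁) = a := by rw [hτ, hμα, hα₀]
  let Λ : Localization.Away (f₁ α₁) →+* Localization.Away a :=
    IsLocalization.Away.lift (f₁ α₁) (g := (algebraMap T (Localization.Away a)).comp τ)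
      (by rw [RingHom.comp_apply, hτa]; exact IsLocalization.Away.algebraMap_isUnit a)
  have hΛ : ∀ x, Λ (algebraMap (MvPolynomial (Fin n) R₁ ⧸ G₁) _ x) = algebraMap T _ (τ x) := fun x =>
    IsLocalization.Away.lift_eq (f₁ α₁) _ x
  have hcomp : ∀ p, φ (μ p) = Λ (φ₁ p) := by
    have : φ.toRingHom.comp μ = Λ.comp φ₁.toRingHom := by
      refine MvPolynomial.ringHom_ext (fun r => ?_) (fun i => ?_)
      · show φ (μ (C r)) = Λ (φ₁ (C r))
        have e : (C r : MvPolynomial (Fin (n + m)) R₁) = rename (Fin.castAdd m) (C r) := (rename_C _ r).symm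
        rw [e, hμr, hφ, hφ₁, chartHom_rename, chartHom_rename, hΛ, hτ]
      · show φ (μ (X i)) = Λ (φ₁ (X i))
        refine Fin.addCases (fun j => ?_) (fun j => ?_) i
        · have e : (X (Fin.castAdd m j) : MvPolynomial (Fin (n + m)) R₁) = rename (Fin.castAdd m) (X j) :=
            (rename_X _ j).symm
          rw [e, hμr, hφ, hφ₁, chartHom_rename, chartHom_rename, hΛ, hτ]
        · rw [show μ (X (Fin.natAdd n j)) = X (Fin.natAdd n j) from MvPolynomial.map_X _ _]
          refine (IsLocalization.Away.algebraMap_isUnit a).mul_left_cancel ?_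
          have h1 : φ₁ (rename (Fin.castAdd m) α₁ * X (Fin.natAdd n j)) = φ₁ (rename (Fin.castAdd m) (σ₁ j)) :=
            sub_eq_zero.mp ((map_sub _ _ _).symm.trans (chartHom_rel f₁ _ s₁ σ₁ α₁ rfl (fun _ => rfl) j))
          have h2 : φ (rename (Fin.castAdd m) α₀ * X (Fin.natAdd n j)) = φ (rename (Fin.castAdd m) (σ j)) :=
            sub_eq_zero.mp ((map_sub _ _ _).symm.trans (chartHom_rel f₀ a s σ α₀ hα₀ hσ j))
          have h3 := congrArg Λ h1
          rw [map_mul, map_mul, hφ₁, chartHom_rename, chartHom_rename, hΛ, hΛ, hτa, hτ, hμσ] at h3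
          rw [map_mul, hφ, chartHom_rename, chartHom_rename, hα₀] at h2
          rw [h3, ← h2, hφ]
    exact fun p => RingHom.congr_fun this p
  set J₁ := RingHom.ker φ₁.toRingHom
  have hle : J₁.map μ ≤ RingHom.ker φ.toRingHom := Ideal.map_le_iff_le_comap.mpr fun x hx => by
    show φ (μ x) = 0
    rw [hcomp, show φ₁ x = 0 from hx, map_zero]
  have hker : RingHom.ker φ.toRingHom = J₁.map μ := by
    refine le_antisymm (fun p hp => ?_) hle
    have hJa : ∀ x, f₀ x = 0 → rename (Fin.castAdd m) x ∈ J₁.map μ := fun x hx => by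
      have hG : RingHom.ker f₀.toRingHom ≤
          ((J₁.map μ).comap (rename (Fin.castAdd m) : MvPolynomial (Fin n) R →ₐ[R] _).toRingHom) := by
        rw [← hG₁, Ideal.map_le_iff_le_comap]
        intro p hp
        show rename (Fin.castAdd m) (μ₀ p) ∈ J₁.map μ
        rw [← hμr]
        refine Ideal.mem_map_of_mem _ ?_
        show φ₁ _ = 0
        rw [hφ₁, chartHom_rename, show f₁ p = 0 from Ideal.Quotient.eq_zero_iff_mem.mpr hp, map_zero]
      exact hG hx
    have hJb : ∀ i, rename (Fin.castAdd m) α₀ * X (Fin.natAdd n i) -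
        rename (Fin.castAdd m) (σ i) ∈ J₁.map μ := fun i => by
      rw [← hμσ, ← hμα, ← hμr, ← hμr,
        ← show μ (X (Fin.natAdd n i)) = X (Fin.natAdd n i) from MvPolynomial.map_X _ _,
        ← map_mul, ← map_sub]
      exact Ideal.mem_map_of_mem _ (chartHom_rel f₁ _ s₁ σ₁ α₁ rfl (fun _ => rfl) i)
    obtain ⟨N, hN⟩ := exists_pow_mul_mem (J₀ := J₁.map μ) hα₀ hσ hJa hJb p hp
    · refine mem_map_of_pow_mul_mem J₁ (rename (Fin.castAdd m) α₁) (fun x hx => ?_) hflatq N p ?_
      · refine chartHom_regular (R := R₁) (f₀ := f₁) rfl x ?_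
        rw [← map_mul]
        exact hx
      · show μ (rename (Fin.castAdd m) α₁) ^ N * p ∈ J₁.map μ
        rw [hμr, hμα]
        exact hN
  obtain ⟨ψ, hψ, hkψ, -⟩ := exists_chart_surjection hf₀ hs hα₀
  exact Algebra.FinitePresentation.of_surjective hψ
    (show (RingHom.ker ψ.toRingHom).FG from hkψ ▸ hker ▸ Ideal.FG.map (IsNoetherian.noetherian _) _)

/-- Charts of a blow-up along an ideal with flat powers are finitely presented. -/
theorem finitePresentation_chart_of_flat_powers [Algebra.FinitePresentation R T] (I : Ideal T)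
    (hI : I.FG) (a : T) (ha : a ∈ I)
    (h : ∀ k, Module.Flat R (T ⧸ (I ^ k • ⊤ : Submodule T T))) :
    Algebra.FinitePresentation R (BlowUp.affineAlgebra T I a) := by
  classical
  obtain ⟨m, s, hs⟩ := Submodule.fg_iff_exists_fin_generating_family.mp hI
  replace hs : Ideal.span (Set.range s) = I := hs
  obtain ⟨n, f₀, hf₀, ⟨S₀, hS₀⟩⟩ := Algebra.FinitePresentation.out (R := R) (A := T)
  choose σ hσ using fun i => hf₀ (s i)
  obtain ⟨cf, hcf⟩ := Ideal.mem_span_range_iff_exists_fun.mp (hs.ge ha)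
  choose cc hcc using fun i => hf₀ (cf i)
  let α₀ : MvPolynomial (Fin n) R := ∑ i, cc i * σ i
  have hα₀ : f₀ α₀ = a := by simp [α₀, hcc, hσ, hcf]
  -- the noetherian subring
  let c : Finset R := (S₀ ∪ Finset.univ.image σ ∪ Finset.univ.image cc).biUnion fun p => p.coeffs
  let R₀ : Subalgebra ℤ R := Algebra.adjoin ℤ (c : Set R)
  haveI : Algebra.FiniteType ℤ R₀ := (Subalgebra.fg_iff_finiteType R₀).1 (Subalgebra.fg_adjoin_finset c)
  haveI : IsNoetherianRing R₀ := Algebra.FiniteType.isNoetherianRing ℤ R₀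
  have hlift : ∀ p ∈ S₀ ∪ Finset.univ.image σ ∪ Finset.univ.image cc,
      ∃ q : MvPolynomial (Fin n) R₀, MvPolynomial.map (algebraMap R₀ R) q = p := fun p hp =>
    MvPolynomial.mem_range_map_iff_coeffs_subset.2 fun x hx =>
      ⟨⟨x, Algebra.subset_adjoin (Finset.mem_biUnion.2 ⟨p, hp, hx⟩)⟩, rfl⟩
  choose! l hl using hlift
  let G : Set (MvPolynomial (Fin n) R₀) := l '' S₀
  let J : Ideal (MvPolynomial (Fin n) R₀) := Ideal.span (Set.range fun i => l (σ i))
  let K₀ : Submodule (MvPolynomial (Fin n) R₀) (V 1 n R₀) :=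
    Submodule.span _ ((fun g => (fun _ => g : V 1 n R₀)) '' G)
  have hlσ : ∀ i, MvPolynomial.map (algebraMap R₀ R) (l (σ i)) = σ i := fun i =>
    hl _ (Finset.mem_union_left _ (Finset.mem_union_right _ (Finset.mem_image_of_mem _ (Finset.mem_univ i))))
  have hlS : ∀ p ∈ S₀, MvPolynomial.map (algebraMap R₀ R) (l p) = p := fun p hp =>
    hl p (Finset.mem_union_left _ (Finset.mem_union_left _ hp))
  have hlc : ∀ i, MvPolynomial.map (algebraMap R₀ R) (l (cc i)) = cc i := fun i =>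
    hl _ (Finset.mem_union_right _ (Finset.mem_image_of_mem _ (Finset.mem_univ i)))
  have hC : ∀ k, FlatC (GrFlat5.L K₀ J k) R := fun k => by
    rw [flatC_iff_flat]
    obtain ⟨e⟩ := quotEquiv (A := R) G J k
    have hGR : Ideal.span (MvPolynomial.map (algebraMap R₀ R) '' G) = RingHom.ker f₀.toRingHom := by
      rw [Set.image_image, Set.image_congr hlS, Set.image_id', hS₀]
    have hJR : GrFlat5.JR J R = Ideal.span (Set.range σ) := by
      rw [GrFlat5.JR, Ideal.map_span, ← Set.range_comp]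
      simp only [Function.comp_def, hlσ]
    have hk : RingHom.ker ((Ideal.Quotient.mkₐ R (I ^ k • ⊤ : Ideal T)).comp f₀).toRingHom =
        RingHom.ker f₀.toRingHom ⊔ Ideal.span (Set.range σ) ^ k := by
      rw [sup_comm, RingHom.ker_eq_comap_bot f₀.toRingHom, ← Ideal.comap_map_of_surjective f₀.toRingHom hf₀,
        Ideal.map_pow, Ideal.map_span, ← Set.range_comp]
      simp only [Function.comp_def, AlgHom.toRingHom_eq_coe, RingHom.coe_coe, hσ, hs]
      ext x
      show Ideal.Quotient.mk _ (f₀ x) = 0 ↔ _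
      rw [Ideal.Quotient.eq_zero_iff_mem, smul_eq_mul, Ideal.mul_top]
      rfl
    haveI : Module.Flat R (MvPolynomial (Fin n) R ⧸
        (Ideal.span (MvPolynomial.map (algebraMap R₀ R) '' G) ⊔ GrFlat5.JR J R ^ k)) := by
      rw [hGR, hJR, ← hk]
      haveI := h k
      exact Module.Flat.of_linearEquiv (Ideal.quotientKerAlgEquivOfSurjective
        (f := (Ideal.Quotient.mkₐ R (I ^ k • ⊤ : Ideal T)).comp f₀)
        (Ideal.Quotient.mk_surjective.comp hf₀)).toLinearEquiv
    exact Module.Flat.of_linearEquiv e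
  obtain ⟨R₁, hR₁, hR₁F⟩ := GrFlat5.exists_fg_uniform K₀ J hC
  haveI : Algebra.FiniteType R₀ R₁ := (Subalgebra.fg_iff_finiteType R₁).1 hR₁
  haveI : IsNoetherianRing R₁ := Algebra.FiniteType.isNoetherianRing R₀ R₁
  let up : MvPolynomial (Fin n) R₀ →+* MvPolynomial (Fin n) R₁ := MvPolynomial.map (algebraMap R₀ R₁)
  have hup : ∀ p, MvPolynomial.map (algebraMap R₁ R) (up p) = MvPolynomial.map (algebraMap R₀ R) p :=
    fun p => by simp only [up, MvPolynomial.map_map, ← IsScalarTower.algebraMap_eq]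
  refine finitePresentation_chart_of_model (R₁ := R₁) f₀ hf₀ I a s hs σ hσ α₀ hα₀
    (Ideal.span (up '' G)) ?_ (fun i => up (l (σ i))) (fun i => (hup _).trans (hlσ i))
    (∑ i, up (l (cc i)) * up (l (σ i))) ?_ ?_ (fun k => ?_)
  · rw [Ideal.map_span, Set.image_image, Set.image_image]
    simp only [hup]
    rw [Set.image_congr hlS, Set.image_id', hS₀]
  · simp only [α₀, map_sum, map_mul, hup, hlσ, hlc]
  · exact sum_mem fun i _ => Ideal.mul_mem_left _ _ (Ideal.subset_span ⟨i, rfl⟩)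
  · haveI := (flatC_iff_flat (GrFlat5.L K₀ J k)).1 (hR₁F k)
    obtain ⟨e⟩ := quotEquiv (A := R₁) G J k
    have hJ1 : GrFlat5.JR J R₁ = Ideal.span (Set.range fun i => up (l (σ i))) := by
      rw [GrFlat5.JR, Ideal.map_span, ← Set.range_comp]
      rfl
    rw [← hJ1]
    exact Module.Flat.of_linearEquiv e.symm

theorem flat_chart_along [Algebra.FinitePresentation R T] (I : Ideal T) (hI : I.FG) (a : T) (ha : a ∈ I)
    (h : ∀ k, Module.Flat R (T ⧸ (I ^ k • ⊤ : Submodule T T)))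
    (q : Ideal (BlowUp.affineAlgebra T I a)) [q.IsPrime]
    (hq : algebraMap T (BlowUp.affineAlgebra T I a) a ∈ q) :
    Module.Flat R (LocalizedModule q.primeCompl (BlowUp.affineAlgebra T I a)) := by
  haveI := finitePresentation_chart_of_flat_powers I hI a ha h
  haveI := flat_excQuot I a ha (flat_piece_of_flat_quot I h)
  exact flat_localized_of_regular (algebraMap T (BlowUp.affineAlgebra T I a) a)
    (mem_nonZeroDivisors_iff_right.mpr fun x hx => Subtype.ext
      ((IsLocalization.Away.algebraMap_isUnit a).mul_left_eq_zero.mp (congrArg Subtype.val hx))) q hq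

end Groth.Agent.CartierFP
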