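import Groth.Agent.CartierFP.Model
import Groth.Agent.CartierFP.Stalks
import Groth.Agent.CartierFP.Main
import Groth.Agent.FlatX.RelCartier
import Groth.Agent.FlatLocus.Basic
import Groth.Agent.StalkLoc7.Basic
import Groth.Agent.MeroX.BaseChange
import Groth.Agent.S12442
import Groth.Prelude.Def_CInt

/-! Blow-ups along centres with flat powers: scheme level. -/

set_option autoImplicit false
set_option linter.style.haveILetI false
noncomputable section

namespace Groth.Agent.CartierFP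

open CategoryTheory CategoryTheory.Limits AlgebraicGeometry TopologicalSpace Groth.Agent.BlowUpLib

universe u

theorem of_charts (P : MorphismProperty Scheme.{u}) [IsZariskiLocalAtSource P] {Z W : Scheme.{u}} (h : Z ⟶ W)
    (key : ∀ z : Z, ∃ (Q : CommRingCat.{u}) (m : Spec Q ⟶ Z),
      IsOpenImmersion m ∧ z ∈ Set.range m ∧ P (m ≫ h)) : P h := by
  choose Q m hm hz hs using key
  let 𝒰 : Z.OpenCover := Scheme.openCoverOfIsOpenCover _ (fun z => (m z).opensRange)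
    (TopologicalSpace.Opens.ext (Set.eq_univ_of_forall fun z =>
      TopologicalSpace.Opens.mem_iSup.mpr ⟨z, hz z⟩))
  refine (IsZariskiLocalAtSource.iff_of_openCover (P := P) 𝒰).mpr fun z => ?_
  show P ((m z).opensRange.ι ≫ h)
  rw [← Scheme.Hom.isoOpensRange_inv_comp (m z), Category.assoc]
  exact MorphismProperty.RespectsIso.precomp P _ _ (hs z)

variable {X X' S : Scheme.{u}}

/-- A chart of a blow-up around a point. -/
theorem exists_chart_nhd (g : X ⟶ S) (𝓘 : X.IdealSheafData) (b : X' ⟶ X) (hb : BlowUp.IsBlowUp b 𝓘)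
    (x' : X') :
    ∃ (U : S.affineOpens) (W : X.affineOpens) (_ : W.1 ≤ g ⁻¹ᵁ U.1) (a : Γ(X, W.1)) (_ : a ∈ 𝓘.ideal W)
      (c : Spec (CommRingCat.of (BlowUp.affineAlgebra Γ(X, W.1) (𝓘.ideal W) a)) ⟶ X'),
      IsOpenImmersion c ∧ x' ∈ Set.range c ∧
      c ≫ b = Spec.map (CommRingCat.ofHom
        (algebraMap Γ(X, W.1) (BlowUp.affineAlgebra Γ(X, W.1) (𝓘.ideal W) a))) ≫ W.2.fromSpec := by
  obtain ⟨_, ⟨U, hU, rfl⟩, hsU, -⟩ := S.isBasis_affineOpens.exists_subset_of_mem_open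
    (Set.mem_univ (g (b x'))) isOpen_univ
  obtain ⟨_, ⟨W, hW, rfl⟩, hxW, hWU⟩ := X.isBasis_affineOpens.exists_subset_of_mem_open
    (show b x' ∈ ((g ⁻¹ᵁ U : X.Opens) : Set X) from hsU) (g ⁻¹ᵁ U).isOpen
  let I := 𝓘.ideal ⟨W, hW⟩
  have H : IsPullback (pullback.snd b hW.fromSpec) (pullback.fst b hW.fromSpec) hW.fromSpec b :=
    (IsPullback.of_hasPullback b hW.fromSpec).flip
  have hP : BlowUp.IsBlowUp (pullback.snd b hW.fromSpec) (centre I) := by
    have := isBlowUp_of_isPullback H hb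
    rwa [comap_fromSpec 𝓘 ⟨W, hW⟩] at this
  obtain ⟨σ, hσ⟩ := exists_iso (isBlowUp_local I) hP
  obtain ⟨w, hw⟩ : x' ∈ Set.range (pullback.fst b hW.fromSpec) := by
    rw [Scheme.Pullback.range_fst]
    show b x' ∈ Set.range hW.fromSpec
    rw [hW.range_fromSpec]
    exact hxW
  obtain ⟨a, v, hv⟩ := chart_covers I (σ.inv w)
  refine ⟨⟨U, hU⟩, ⟨W, hW⟩, hWU, a, a.2, chart I a ≫ σ.hom ≫ pullback.fst b hW.fromSpec,
    inferInstance, ⟨v, ?_⟩, ?_⟩
  · rw [Scheme.Hom.comp_apply, Scheme.Hom.comp_apply, hv, ← Scheme.Hom.comp_apply σ.inv σ.hom,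
      Iso.inv_hom_id, ← hw]
    rfl
  · simp only [Category.assoc]
    rw [pullback.condition, reassoc_of% hσ, chart_toBase_assoc]

/-- The exceptional divisor on a chart. -/
theorem exists_exc_chart (𝓘 : X.IdealSheafData) (b : X' ⟶ X) (W : X.affineOpens) (a : Γ(X, W.1))
    (ha : a ∈ 𝓘.ideal W)
    (c : Spec (CommRingCat.of (BlowUp.affineAlgebra Γ(X, W.1) (𝓘.ideal W) a)) ⟶ X') [IsOpenImmersion c]
    (hc : c ≫ b = Spec.map (CommRingCat.ofHom
        (algebraMap Γ(X, W.1) (BlowUp.affineAlgebra Γ(X, W.1) (𝓘.ideal W) a))) ≫ W.2.fromSpec) :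
    ∃ m : Spec (CommRingCat.of (excQuot (𝓘.ideal W) a)) ⟶ (BlowUp.exceptional b 𝓘).subscheme,
      IsOpenImmersion m ∧
      m ≫ (BlowUp.exceptional b 𝓘).subschemeι = Spec.map (CommRingCat.ofHom (Ideal.Quotient.mk _)) ≫ c ∧
      ∀ z, (BlowUp.exceptional b 𝓘).subschemeι z ∈ Set.range c → z ∈ Set.range m := by
  let I := 𝓘.ideal W
  let B := BlowUp.affineAlgebra Γ(X, W.1) I a
  let K : Ideal B := Ideal.span {algebraMap Γ(X, W.1) B a}
  have hK : I.map (algebraMap Γ(X, W.1) B) = K := by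
    refine le_antisymm (Ideal.map_le_iff_le_comap.mpr fun x hx => ?_)
      ((Ideal.span_singleton_le_iff_mem _).mpr (Ideal.mem_map_of_mem _ ha))
    exact Ideal.mem_span_singleton'.mpr ⟨frac I ⟨x, hx⟩ ⟨a, ha⟩, frac_mul I ⟨x, hx⟩ ⟨a, ha⟩⟩
  let E := BlowUp.exceptional b 𝓘
  let ιK : Spec (CommRingCat.of (B ⧸ K)) ⟶ Spec (CommRingCat.of B) :=
    Spec.map (CommRingCat.ofHom (Ideal.Quotient.mk K))
  haveI : IsClosedImmersion ιK := IsClosedImmersion.spec_of_surjective _ Ideal.Quotient.mk_surjective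
  have hEc : E.comap c = ιK.ker := by
    show (𝓘.comap b).comap c = _
    rw [← Scheme.IdealSheafData.comap_comp, hc, Scheme.IdealSheafData.comap_comp,
      comap_fromSpec 𝓘 W, ExcSmooth.comap_centre, hK, ExcSmooth.centre_eq_ker]
  have hleE : E.subschemeι.ker ≤ (ιK ≫ c).ker := by
    rw [Scheme.IdealSheafData.ker_subschemeι, ← Scheme.IdealSheafData.map_ker]
    exact Scheme.IdealSheafData.le_map_iff_comap_le.mpr hEc.le
  let m := IsClosedImmersion.lift E.subschemeι (ιK ≫ c) hleE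
  have hm : m ≫ E.subschemeι = ιK ≫ c := IsClosedImmersion.lift_fac _ _ _
  have sqE : IsPullback ιK m c E.subschemeι := isPullback_of_isClosedImmersion ιK _ m c hm.symm
    (by rw [Scheme.IdealSheafData.ker_subschemeι, hEc])
  refine ⟨m, MorphismProperty.of_isPullback (P := @IsOpenImmersion) sqE inferInstance, hm, ?_⟩
  rintro z ⟨v, hv⟩
  obtain ⟨q, -, hq⟩ := Scheme.Pullback.exists_preimage_pullback v z hv
  refine ⟨sqE.isoPullback.inv q, ?_⟩
  rw [← Scheme.Hom.comp_apply, sqE.isoPullback_inv_snd]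
  exact hq

/-- Structure map of a chart over the base. -/
theorem chart_comp (g : X ⟶ S) (U : S.affineOpens) (W : X.affineOpens) (e : W.1 ≤ g ⁻¹ᵁ U.1)
    {Z : Type u} [CommRing Z] (φ : Γ(X, W.1) →+* Z) :
    Spec.map (CommRingCat.ofHom φ) ≫ W.2.fromSpec ≫ g =
      Spec.map (CommRingCat.ofHom (φ.comp (g.appLE U.1 W.1 e).hom)) ≫ U.2.fromSpec := by
  rw [CommRingCat.ofHom_comp, Spec.map_comp, Category.assoc, ← IsAffineOpen.SpecMap_appLE_fromSpec g U.2 W.2 e]
  rfl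

/-- If all powers of the centre are flat over the base, so is the exceptional divisor. -/
theorem flat_exceptional (g : X ⟶ S) (𝓘 : X.IdealSheafData) (b : X' ⟶ X) (hb : BlowUp.IsBlowUp b 𝓘)
    (h : ∀ (U : S.affineOpens) (W : X.affineOpens) (e : W.1 ≤ g ⁻¹ᵁ U.1) (k : ℕ),
      letI := (g.appLE U.1 W.1 e).hom.toAlgebra
      Module.Flat Γ(S, U.1) (Γ(X, W.1) ⧸ (𝓘.ideal W ^ k • ⊤ : Submodule Γ(X, W.1) Γ(X, W.1)))) :
    Flat ((BlowUp.exceptional b 𝓘).subschemeι ≫ b ≫ g) := by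
  refine of_charts @Flat _ fun z => ?_
  obtain ⟨U, W, e, a, ha, c, hc, hzc, hcb⟩ :=
    exists_chart_nhd g 𝓘 b hb ((BlowUp.exceptional b 𝓘).subschemeι z)
  obtain ⟨m, hm, hmc, hmr⟩ := exists_exc_chart 𝓘 b W a ha c hcb
  refine ⟨_, m, hm, hmr z hzc, ?_⟩
  rw [reassoc_of% hmc, reassoc_of% hcb, ← Spec.map_comp_assoc, ← CommRingCat.ofHom_comp,
    chart_comp g U W e]
  letI := (g.appLE U.1 W.1 e).hom.toAlgebra
  have hq := flat_excQuot (R := Γ(S, U.1)) (𝓘.ideal W) a ha (flat_piece_of_flat_quot _ (h U W e))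
  haveI : Flat (Spec.map (CommRingCat.ofHom (R := Γ(S, U.1)) (S := excQuot (𝓘.ideal W) a) (algebraMap Γ(S, U.1) (excQuot (𝓘.ideal W) a)))) :=
    (HasRingHomProperty.Spec_iff (P := @Flat)).mpr ((RingHom.flat_algebraMap_iff (R := Γ(S, U.1)) (S := excQuot (𝓘.ideal W) a)).mpr hq)
  show Flat (Spec.map (CommRingCat.ofHom (R := Γ(S, U.1)) (S := excQuot (𝓘.ideal W) a) (algebraMap Γ(S, U.1) (excQuot (𝓘.ideal W) a))) ≫ U.2.fromSpec)
  infer_instance

theorem flat_quot_of_subscheme (g : X ⟶ S) (J : X.IdealSheafData) (hJ : Flat (J.subschemeι ≫ g))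
    (U : S.affineOpens) (W : X.affineOpens) (e : W.1 ≤ g ⁻¹ᵁ U.1) (K : Ideal Γ(X, W.1)) (hK : J.ideal W = K) :
    letI := (g.appLE U.1 W.1 e).hom.toAlgebra
    Module.Flat Γ(S, U.1) (Γ(X, W.1) ⧸ K) := by
  letI := (g.appLE U.1 W.1 e).hom.toAlgebra
  exact RingHom.flat_algebraMap_iff.mp (FlatX.flat_congr _ hK (FlatX.flat_quotApp g J hJ U W e))

theorem flat_powers_of_thickenings (g : X ⟶ S) (𝓘 : X.IdealSheafData)
    (hflat : ∀ n : ℕ, Flat ((𝓘 ^ (n + 1)).subschemeι ≫ g))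
    (U : S.affineOpens) (W : X.affineOpens) (e : W.1 ≤ g ⁻¹ᵁ U.1) (k : ℕ) :
    letI := (g.appLE U.1 W.1 e).hom.toAlgebra
    Module.Flat Γ(S, U.1) (Γ(X, W.1) ⧸ (𝓘.ideal W ^ k • ⊤ : Submodule Γ(X, W.1) Γ(X, W.1))) := by
  letI := (g.appLE U.1 W.1 e).hom.toAlgebra
  cases k with
  | zero =>
    haveI : Subsingleton (Γ(X, W.1) ⧸ (𝓘.ideal W ^ 0 • ⊤ : Submodule Γ(X, W.1) Γ(X, W.1))) := by
      rw [Submodule.Quotient.subsingleton_iff, pow_zero, Submodule.one_smul]
    infer_instance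
  | succ n =>
    refine flat_quot_of_subscheme g _ (hflat n) U W e _ ?_
    rw [Scheme.IdealSheafData.ideal_pow, Pi.pow_apply, smul_eq_mul, Ideal.mul_top]

/-- Blowing up commutes with base change when all powers of the centre are flat over the base. -/
theorem isBlowUp_baseChange (g : X ⟶ S) (𝓘 : X.IdealSheafData) (b : X' ⟶ X) (hb : BlowUp.IsBlowUp b 𝓘)
    (hE : Flat ((BlowUp.exceptional b 𝓘).subschemeι ≫ b ≫ g)) (S₁ : Scheme.{u}) (s : S₁ ⟶ S) :
    BlowUp.IsBlowUp (CInt.baseChangeOver b g s) (𝓘.comap (pullback.fst g s)) := by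
  have hfst : CInt.baseChangeOver b g s ≫ pullback.fst g s = pullback.fst (b ≫ g) s ≫ b := by
    exact pullback.lift_fst _ _ _
  have hsnd : CInt.baseChangeOver b g s ≫ pullback.snd g s = pullback.snd (b ≫ g) s := by
    exact (pullback.lift_snd _ _ _).trans (Category.comp_id _)
  refine ⟨?_, fun Y h hY => ?_⟩
  · rw [← Scheme.IdealSheafData.comap_comp, hfst, Scheme.IdealSheafData.comap_comp]
    haveI := hE
    exact MeroX.isEffCartier_baseChange (b ≫ g) _ hb.1 s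
  · rw [← Scheme.IdealSheafData.comap_comp] at hY
    obtain ⟨k, hk, hku⟩ := hb.2 Y _ hY
    refine ⟨pullback.lift k (h ≫ pullback.snd g s) ?_, ?_, fun k' hk' => ?_⟩
    · rw [reassoc_of% hk, Category.assoc, pullback.condition]
    · refine pullback.hom_ext ?_ ?_
      · rw [Category.assoc, hfst, pullback.lift_fst_assoc, hk]
      · rw [Category.assoc, hsnd, pullback.lift_snd]
    · refine pullback.hom_ext ?_ ?_
      · rw [pullback.lift_fst]
        refine hku _ ?_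
        show (k' ≫ pullback.fst (b ≫ g) s) ≫ b = _
        rw [Category.assoc, ← hfst, ← Category.assoc, hk']
      · rw [pullback.lift_snd, ← hsnd, ← Category.assoc, hk']

/-- The stalk map is flat at a point along a Cartier divisor which is flat over the base. -/
theorem flat_stalkMap_along (f : X ⟶ S) [LocallyOfFinitePresentation f] {D : X.IdealSheafData}
    (hD : BlowUp.IsEffCartierIdeal D) (fD : Flat (D.subschemeι ≫ f)) {x : X} (hx : x ∈ D.support) :
    (f.stalkMap x).hom.Flat := by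
  obtain ⟨W, hxW⟩ := FlatX.exists_chart f x
  obtain ⟨U, hxU, e, a, ha, hIa⟩ := FlatX.exists_locGen hD hxW
  letI := (f.appLE W.1 U.1 e).hom.toAlgebra
  haveI : Algebra.FinitePresentation Γ(S, W.1) Γ(X, U.1) := f.finitePresentation_appLE W.2 U.2 e
  haveI := flat_quot_of_subscheme f D fD W U e _ hIa
  have haq : a ∈ (U.2.primeIdealOf ⟨x, hxU⟩).asIdeal := by
    by_contra h
    have h2 := StalkLoc7.mem_basicOpen U.2 hxU h
    rw [Scheme.IdealSheafData.mem_support_iff_of_mem (U := U) hxU, hIa, Scheme.zeroLocus_span,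
      Scheme.mem_zeroLocus_iff] at hx
    exact hx a rfl h2
  haveI := flat_localized_of_regular (R := Γ(S, W.1)) a ha (U.2.primeIdealOf ⟨x, hxU⟩).asIdeal haq
  letI := X.presheaf.algebra_section_stalk ⟨x, hxU⟩
  haveI := U.2.isLocalization_stalk ⟨x, hxU⟩
  letI : Algebra Γ(S, W.1) (X.presheaf.stalk x) :=
    ((X.presheaf.germ U.1 x hxU).hom.comp (f.appLE W.1 U.1 e).hom).toAlgebra
  haveI : IsScalarTower Γ(S, W.1) Γ(X, U.1) (X.presheaf.stalk x) :=
    IsScalarTower.of_algebraMap_eq fun _ => rfl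
  have hflat : Module.Flat Γ(S, W.1) (X.presheaf.stalk x) :=
    Module.Flat.of_linearEquiv ((IsLocalizedModule.iso (U.2.primeIdealOf ⟨x, hxU⟩).asIdeal.primeCompl
      (Algebra.linearMap Γ(X, U.1) (X.presheaf.stalk x))).restrictScalars Γ(S, W.1)).symm
  letI := S.presheaf.algebra_section_stalk ⟨f x, hxW⟩
  haveI := W.2.isLocalization_stalk ⟨f x, hxW⟩
  letI := (f.stalkMap x).hom.toAlgebra
  haveI : IsScalarTower Γ(S, W.1) (S.presheaf.stalk (f x)) (X.presheaf.stalk x) := by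
    refine IsScalarTower.of_algebraMap_eq fun w => ?_
    change X.presheaf.germ U.1 x hxU (f.appLE W.1 U.1 e w) = f.stalkMap x (S.presheaf.germ W.1 (f x) hxW w)
    rw [Scheme.Hom.germ_stalkMap_apply, Scheme.Hom.appLE, CommRingCat.comp_apply,
      TopCat.Presheaf.germ_res_apply]
  exact (Module.flat_iff_of_isLocalization (S.presheaf.stalk (f x))
    (W.2.primeIdealOf ⟨f x, hxW⟩).asIdeal.primeCompl _).mpr hflat

theorem exists_flat_nhd (f : X ⟶ S) [LocallyOfFinitePresentation f] {D : X.IdealSheafData}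
    (hD : BlowUp.IsEffCartierIdeal D) (fD : Flat (D.subschemeι ≫ f)) :
    ∃ U : X.Opens, (D.support : Set ↥X) ⊆ U ∧ (∀ x : ↥X, x ∈ U → (f.stalkMap x).hom.Flat) :=
  ⟨⟨_, FlatLocus.isOpen_flat_locus f⟩, fun _ hx => flat_stalkMap_along f hD fD hx, fun _ hx => hx⟩

theorem flat_of_mem (f : X ⟶ S) (U : X.Opens) (h : ∀ x : ↥X, x ∈ U → (f.stalkMap x).hom.Flat) :
    Flat (U.ι ≫ f) :=
  (AlgebraicGeometry.Flat.iff_flat_stalkMap _).mpr fun x => (StalkLoc7.stalkMap_flat_openImmersion_comp f U x).mp (h _ x.2)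

/-- Conclusions for a finitely presented normally flat centre. -/
theorem normallyFlat (g : X ⟶ S) [LocallyOfFinitePresentation g]
    (𝓘 : X.IdealSheafData) [LocallyOfFinitePresentation (𝓘.subschemeι ≫ g)] [Flat (𝓘.subschemeι ≫ g)]
    (hnf : ∀ y : ↥𝓘.subscheme, EGA4.IsNormallyFlat (RingHom.ker (𝓘.subschemeι.stalkMap y).hom)
      ↑(X.presheaf.stalk (𝓘.subschemeι y)))
    (b : X' ⟶ X) (hb : BlowUp.IsBlowUp b 𝓘) :
    (LocallyOfFinitePresentation b ∧ QuasiCompact b ∧ QuasiSeparated b) ∧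
      (∀ f : (BlowUp.exceptional b 𝓘).subscheme ⟶ 𝓘.subscheme,
          f ≫ 𝓘.subschemeι = (BlowUp.exceptional b 𝓘).subschemeι ≫ b → Flat f) ∧
      (∃ U : X.Opens, (𝓘.support : Set ↥X) ⊆ U ∧ ∀ x : ↥X, x ∈ U → (g.stalkMap x).hom.Flat) ∧
      (∃ U' : X'.Opens, ((BlowUp.exceptional b 𝓘).support : Set ↥X') ⊆ U' ∧
          ∀ x' : ↥X', x' ∈ U' → ((b ≫ g).stalkMap x').hom.Flat) := by
  have hpieces : ∀ (W : X.affineOpens) (n : ℕ),
      Module.Flat (Γ(X, W.1) ⧸ 𝓘.ideal W) (piece (𝓘.ideal W) n) := flat_piece_of_isNormallyFlat 𝓘 hnf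
  have hpow : ∀ (U : S.affineOpens) (W : X.affineOpens) (e : W.1 ≤ g ⁻¹ᵁ U.1) (k : ℕ),
      letI := (g.appLE U.1 W.1 e).hom.toAlgebra
      Module.Flat Γ(S, U.1) (Γ(X, W.1) ⧸ (𝓘.ideal W ^ k • ⊤ : Submodule Γ(X, W.1) Γ(X, W.1))) := by
    intro U W e k
    letI := (g.appLE U.1 W.1 e).hom.toAlgebra
    refine flat_quot_of_flat_piece _ (fun n => ?_) k
    haveI := flat_quot_of_subscheme g 𝓘 ‹_› U W e _ rfl
    haveI := hpieces W n
    haveI : IsScalarTower Γ(S, U.1) (Γ(X, W.1) ⧸ 𝓘.ideal W) (piece (𝓘.ideal W) n) :=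
      IsScalarTower.of_algebraMap_smul fun r x => by
        rw [IsScalarTower.algebraMap_apply Γ(S, U.1) Γ(X, W.1) (Γ(X, W.1) ⧸ 𝓘.ideal W),
          Ideal.Quotient.algebraMap_eq]
        exact algebraMap_smul Γ(X, W.1) r x
    exact Module.Flat.trans Γ(S, U.1) (Γ(X, W.1) ⧸ 𝓘.ideal W) _
  have hfp : BlowUp.IsFiniteTypeIdeal 𝓘 := by
    intro W
    haveI : LocallyOfFinitePresentation 𝓘.subschemeι := Groth.Agent.S12442.locallyOfFinitePresentation_of_comp _ g
    have h1 : (𝓘.subschemeι.app W.1).hom.FinitePresentation := by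
      rw [Scheme.Hom.app_eq_appLE]
      exact 𝓘.subschemeι.finitePresentation_appLE W.2 (W.2.preimage _) _
    algebraize [(𝓘.subschemeι.app W.1).hom]
    have := Algebra.FinitePresentation.ker_fG_of_surjective
      (Algebra.ofId Γ(X, W.1) Γ(𝓘.subscheme, 𝓘.subschemeι ⁻¹ᵁ W.1)) (𝓘.subschemeι_app_surjective W)
    rw [← 𝓘.ker_subschemeι_app W]
    exact this
  haveI := isProper_of_isBlowUp 𝓘 hb hfp
  have hbP : LocallyOfFinitePresentation b := by
    refine of_charts @LocallyOfFinitePresentation _ fun x' => ?_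
    obtain ⟨U, W, e, a, ha, c, hc, hxc, hcb⟩ := exists_chart_nhd g 𝓘 b hb x'
    refine ⟨_, c, hc, hxc, ?_⟩
    algebraize [(g.appLE U.1 W.1 e).hom]
    haveI : Algebra.FinitePresentation Γ(S, U.1) Γ(X, W.1) := g.finitePresentation_appLE U.2 W.2 e
    haveI := finitePresentation_chart_of_flat_powers (𝓘.ideal W) (hfp W) a ha (hpow U W e)
    haveI : Algebra.FinitePresentation Γ(X, W.1) (BlowUp.affineAlgebra Γ(X, W.1) (𝓘.ideal W) a) :=
      Algebra.FinitePresentation.of_restrict_scalars_finitePresentation Γ(S, U.1) _ _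
    haveI : LocallyOfFinitePresentation (Spec.map (CommRingCat.ofHom
        (algebraMap Γ(X, W.1) (BlowUp.affineAlgebra Γ(X, W.1) (𝓘.ideal W) a)))) :=
      (HasRingHomProperty.Spec_iff (P := @LocallyOfFinitePresentation)).mpr
        (RingHom.finitePresentation_algebraMap.mpr ‹_›)
    rw [hcb]
    infer_instance
  have hE : Flat ((BlowUp.exceptional b 𝓘).subschemeι ≫ b ≫ g) := flat_exceptional g 𝓘 b hb hpow
  refine ⟨⟨hbP, inferInstance, inferInstance⟩, fun f hf => ?_, ?_, exists_flat_nhd (b ≫ g) hb.1 hE⟩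
  · refine of_charts @Flat f fun z => ?_
    obtain ⟨U, W, e, a, ha, c, hc, hzc, hcb⟩ :=
      exists_chart_nhd g 𝓘 b hb ((BlowUp.exceptional b 𝓘).subschemeι z)
    obtain ⟨m, hm, hmc, hmr⟩ := exists_exc_chart 𝓘 b W a ha c hcb
    refine ⟨_, m, hm, hmr z hzc, ?_⟩
    let I := 𝓘.ideal W
    let ιI : Spec (CommRingCat.of (Γ(X, W.1) ⧸ I)) ⟶ Spec (CommRingCat.of Γ(X, W.1)) :=
      Spec.map (CommRingCat.ofHom (Ideal.Quotient.mk I))
    haveI : IsClosedImmersion ιI := IsClosedImmersion.spec_of_surjective _ Ideal.Quotient.mk_surjective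
    have hIc : 𝓘.comap W.2.fromSpec = ιI.ker := by
      rw [comap_fromSpec 𝓘 W, ExcSmooth.centre_eq_ker]
    have hleY : 𝓘.subschemeι.ker ≤ (ιI ≫ W.2.fromSpec).ker := by
      rw [Scheme.IdealSheafData.ker_subschemeι, ← Scheme.IdealSheafData.map_ker]
      exact Scheme.IdealSheafData.le_map_iff_comap_le.mpr hIc.le
    let eY := IsClosedImmersion.lift 𝓘.subschemeι (ιI ≫ W.2.fromSpec) hleY
    have he : eY ≫ 𝓘.subschemeι = ιI ≫ W.2.fromSpec := IsClosedImmersion.lift_fac _ _ _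
    haveI : IsOpenImmersion eY := MorphismProperty.of_isPullback (P := @IsOpenImmersion)
      (isPullback_of_isClosedImmersion ιI _ eY _ he.symm
        (by rw [Scheme.IdealSheafData.ker_subschemeι, hIc])) inferInstance
    have hle : I ≤ (Ideal.span {algebraMap Γ(X, W.1) (BlowUp.affineAlgebra Γ(X, W.1) I a) a}).comap
        (algebraMap Γ(X, W.1) (BlowUp.affineAlgebra Γ(X, W.1) I a)) := fun x hx =>
      Ideal.mem_span_singleton'.mpr ⟨frac I ⟨x, hx⟩ ⟨a, ha⟩, frac_mul I ⟨x, hx⟩ ⟨a, ha⟩⟩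
    let φ : Γ(X, W.1) ⧸ I →+* excQuot I a := Ideal.quotientMap _ (algebraMap _ _) hle
    have hφ : RingHom.Flat (R := Γ(X, W.1) ⧸ I) (S := excQuot I a) φ := by
      letI : Algebra (Γ(X, W.1) ⧸ I) (excQuot I a) :=
        RingHom.toAlgebra (R := Γ(X, W.1) ⧸ I) (S := excQuot I a) φ
      haveI : IsScalarTower Γ(X, W.1) (Γ(X, W.1) ⧸ I) (excQuot I a) :=
        IsScalarTower.of_algebraMap_eq fun _ => rfl
      obtain ⟨t, π, h1, h2, h3⟩ := exists_colimit I a ha
      haveI := hpieces W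
      exact flat_of_colimit (piece I)
        (fun n => LinearMap.extendScalarsOfSurjective Ideal.Quotient.mk_surjective (t n))
        (fun n => LinearMap.extendScalarsOfSurjective Ideal.Quotient.mk_surjective (π n)) h1 h2 h3
    haveI : Flat (Spec.map (CommRingCat.ofHom (R := Γ(X, W.1) ⧸ I) (S := excQuot I a) φ)) := (HasRingHomProperty.Spec_iff (P := @Flat)).mpr hφ
    have hmf : m ≫ f = Spec.map (CommRingCat.ofHom (R := Γ(X, W.1) ⧸ I) (S := excQuot I a) φ) ≫ eY := by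
      rw [← cancel_mono 𝓘.subschemeι, Category.assoc, hf, reassoc_of% hmc, hcb, Category.assoc, he,
        ← Spec.map_comp_assoc, ← Spec.map_comp_assoc]
      rfl
    rw [hmf]
    infer_instance
  · refine ⟨⟨_, FlatLocus.isOpen_flat_locus g⟩, fun x hx => ?_, fun _ h => h⟩
    obtain ⟨U, hxU⟩ := FlatX.exists_chart g x
    obtain ⟨_, ⟨W, hW, rfl⟩, hxW, hWU⟩ := X.isBasis_affineOpens.exists_subset_of_mem_open
      (show x ∈ ((g ⁻¹ᵁ U.1 : X.Opens) : Set X) from hxU) (g ⁻¹ᵁ U.1).isOpen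
    algebraize [(g.appLE U.1 W hWU).hom]
    haveI : Algebra.FinitePresentation Γ(S, U.1) Γ(X, W) := g.finitePresentation_appLE U.2 hW hWU
    have hq : 𝓘.ideal ⟨W, hW⟩ ≤ (hW.primeIdealOf ⟨x, hxW⟩).asIdeal := fun a ha => by
      by_contra h
      have h2 := StalkLoc7.mem_basicOpen hW hxW h
      have hx' := (Scheme.IdealSheafData.mem_support_iff_of_mem (U := ⟨W, hW⟩) hxW).mp hx
      rw [Scheme.mem_zeroLocus_iff] at hx'
      exact hx' a ha h2
    haveI : Module.Flat Γ(S, U.1)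
        (LocalizedModule (hW.primeIdealOf ⟨x, hxW⟩).asIdeal.primeCompl Γ(X, W)) :=
      GrFlat5.flat_localized_of_forall_flat_quot (𝓘.ideal ⟨W, hW⟩) (hfp ⟨W, hW⟩)
        (hpow U ⟨W, hW⟩ hWU) _ hq
    letI := X.presheaf.algebra_section_stalk ⟨x, hxW⟩
    haveI := hW.isLocalization_stalk ⟨x, hxW⟩
    letI : Algebra Γ(S, U.1) (X.presheaf.stalk x) :=
      ((X.presheaf.germ W x hxW).hom.comp (g.appLE U.1 W hWU).hom).toAlgebra
    haveI : IsScalarTower Γ(S, U.1) Γ(X, W) (X.presheaf.stalk x) :=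
      IsScalarTower.of_algebraMap_eq fun _ => rfl
    have hflat : Module.Flat Γ(S, U.1) (X.presheaf.stalk x) :=
      Module.Flat.of_linearEquiv ((IsLocalizedModule.iso (hW.primeIdealOf ⟨x, hxW⟩).asIdeal.primeCompl
        (Algebra.linearMap Γ(X, W) (X.presheaf.stalk x))).restrictScalars Γ(S, U.1)).symm
    letI := S.presheaf.algebra_section_stalk ⟨g x, hxU⟩
    haveI := U.2.isLocalization_stalk ⟨g x, hxU⟩
    letI := (g.stalkMap x).hom.toAlgebra
    haveI : IsScalarTower Γ(S, U.1) (S.presheaf.stalk (g x)) (X.presheaf.stalk x) := by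
      refine IsScalarTower.of_algebraMap_eq fun w => ?_
      change X.presheaf.germ W x hxW (g.appLE U.1 W hWU w) = g.stalkMap x (S.presheaf.germ U.1 (g x) hxU w)
      rw [Scheme.Hom.germ_stalkMap_apply, Scheme.Hom.appLE, CommRingCat.comp_apply,
        TopCat.Presheaf.germ_res_apply]
    exact (Module.flat_iff_of_isLocalization (S.presheaf.stalk (g x))
      (U.2.primeIdealOf ⟨g x, hxU⟩).asIdeal.primeCompl _).mpr hflat

end Groth.Agent.CartierFP
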