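import Groth.Agent.CartierFP.Smooth

/-! A regular sequence with smooth quotient: the algebra is smooth along it. -/

set_option autoImplicit false
noncomputable section

namespace Groth.Agent.CartierFP

open RingTheory.Sequence

universe u

theorem isSmoothAt_of_weaklyRegular_aux {R : Type u} [CommRing R] :
    ∀ (n : ℕ) {B : Type u} [CommRing B] [Algebra R B] [Algebra.FinitePresentation R B] (as : List B),
      as.length = n → IsWeaklyRegular B as →
      ∀ {C : Type u} [CommRing C] [Algebra R C] (π : B →ₐ[R] C), Function.Surjective π →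
      RingHom.ker π = Ideal.ofList as →
      ∀ (q' : Ideal C) [q'.IsPrime], Algebra.IsSmoothAt R q' →
        Algebra.IsSmoothAt R (q'.comap π.toRingHom) := by
  intro n
  induction n with
  | zero =>
    intro B _ _ _ as hlen _ C _ _ π hπ hker q' _ hs
    obtain ⟨F, hF, -, hFk⟩ := exists_presentation_atPrime π hπ q' _ rfl
    rw [List.length_eq_zero_iff.mp hlen, Ideal.ofList_nil] at hker
    have hker' : RingHom.ker F = ⊥ := by rw [hFk, hker, Ideal.map_bot]
    haveI : Algebra.FormallySmooth R (Localization.AtPrime q') := hs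
    exact Algebra.FormallySmooth.of_equiv
      (AlgEquiv.ofBijective F ⟨(RingHom.injective_iff_ker_eq_bot _).mpr hker', hF⟩).symm
  | succ n ih =>
    intro B _ _ _ as hlen hreg C _ _ π hπ hker q' _ hs
    obtain ⟨a, as, rfl⟩ : ∃ a as', as = a :: as' := by
      cases as with
      | nil => simp at hlen
      | cons a as => exact ⟨a, as, rfl⟩
    rw [isWeaklyRegular_cons_iff'] at hreg
    rw [Ideal.ofList_cons] at hker
    obtain ⟨hra, hrs⟩ := hreg
    have ha : a ∈ nonZeroDivisors B := by
      rw [mem_nonZeroDivisors_iff_right]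
      intro x hx
      exact hra (show a • x = a • 0 by rw [smul_eq_mul, smul_zero, mul_comm, hx])
    let K : Ideal B := Ideal.span {a}
    have hK : ∀ x ∈ K, π x = 0 := fun x hx =>
      (show x ∈ RingHom.ker π by rw [hker]; exact Ideal.mem_sup_left hx)
    let π₁ : (B ⧸ K) →ₐ[R] C := Ideal.Quotient.liftₐ K π hK
    have hπ₁ : Function.Surjective π₁ := fun c =>
      let ⟨b, hb⟩ := hπ c; ⟨Ideal.Quotient.mk K b, hb⟩
    haveI : Algebra.FinitePresentation R (B ⧸ K) :=
      Algebra.FinitePresentation.quotient ⟨{a}, by simp [K]⟩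
    have hker₁ : RingHom.ker π₁ = Ideal.ofList (as.map (Ideal.Quotient.mk K)) := by
      refine Eq.trans ?_ (Ideal.map_ofList (Ideal.Quotient.mk K) as)
      refine le_antisymm (fun x hx => ?_) (Ideal.map_le_iff_le_comap.mpr fun x hx => ?_)
      · obtain ⟨b, rfl⟩ := Ideal.Quotient.mk_surjective x
        have hb : b ∈ RingHom.ker π := hx
        rw [hker, Submodule.mem_sup] at hb
        obtain ⟨u, hu, v, hv, rfl⟩ := hb
        rw [map_add, Ideal.Quotient.eq_zero_iff_mem.mpr hu, zero_add]
        exact Ideal.mem_map_of_mem _ hv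
      · show π x = 0
        exact (show x ∈ RingHom.ker π by rw [hker]; exact Ideal.mem_sup_right hx)
    let e : QuotSMulTop a B ≃ₗ[B ⧸ K] (B ⧸ K) :=
      LinearEquiv.extendScalarsOfSurjective Ideal.Quotient.mk_surjective
        (Submodule.quotEquivOfEq _ _ (by
          rw [← Submodule.ideal_span_singleton_smul, smul_eq_mul, Ideal.mul_top]) :
          QuotSMulTop a B ≃ₗ[B] (B ⧸ K))
    have hrs' : IsWeaklyRegular (B ⧸ K) (as.map (Ideal.Quotient.mk K)) :=
      (LinearEquiv.isWeaklyRegular_congr e _).mp hrs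
    haveI := ih (as.map (Ideal.Quotient.mk K)) (by simpa using hlen) hrs' π₁ hπ₁ hker₁ q' hs
    exact isSmoothAt_of_regular (R := R) a ha (q'.comap π.toRingHom) (q'.comap π₁.toRingHom) rfl

theorem isSmoothAt_of_weaklyRegular {R B : Type u} [CommRing R] [CommRing B] [Algebra R B]
    [Algebra.FinitePresentation R B] (as : List B) (hreg : IsWeaklyRegular B as)
    (q' : Ideal (B ⧸ Ideal.ofList as)) [q'.IsPrime] [hs : Algebra.IsSmoothAt R q'] :
    Algebra.IsSmoothAt R (q'.comap (Ideal.Quotient.mk (Ideal.ofList as))) :=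
  isSmoothAt_of_weaklyRegular_aux as.length as rfl hreg (Ideal.Quotient.mkₐ R _)
    Ideal.Quotient.mk_surjective (Ideal.Quotient.mkₐ_ker R _) q' hs

end Groth.Agent.CartierFP
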