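import Groth.Agent.CartierFP.Scheme
import Groth.Agent.CartierFP.SmoothSeq

/-! Smoothness near a Cartier divisor which is smooth over the base. -/

set_option autoImplicit false
set_option linter.style.haveILetI false
noncomputable section

namespace Groth.Agent.CartierFP

open CategoryTheory CategoryTheory.Limits AlgebraicGeometry TopologicalSpace Groth.Agent.BlowUpLib

universe u

theorem fg_ofList {R : Type*} [CommRing R] (as : List R) : (Ideal.ofList as).FG := by
  classical
  exact ⟨as.toFinset, congrArg _ (Set.ext fun _ => List.mem_toFinset)⟩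

/-- If a closed subscheme cut out by a regular sequence is smooth over the base at a point, so is the
ambient scheme. -/
theorem exists_smooth_nhd_seq {X S : Scheme.{u}} (f : X ⟶ S) [LocallyOfFinitePresentation f]
    {D : X.IdealSheafData} (d : ↥D.subscheme) (U : S.affineOpens) (W : X.affineOpens)
    (e : W.1 ≤ f ⁻¹ᵁ U.1) (hxW : D.subschemeι d ∈ W.1) (as : List Γ(X, W.1))
    (hreg : RingTheory.Sequence.IsWeaklyRegular Γ(X, W.1) as) (hIa : D.ideal W = Ideal.ofList as)
    (V : D.subscheme.Opens) (hdV : d ∈ V) [Smooth (V.ι ≫ D.subschemeι ≫ f)] :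
    ∃ O : X.Opens, D.subschemeι d ∈ O ∧ Smooth (O.ι ≫ f) := by
  let R := Γ(S, U.1)
  let T := Γ(X, W.1)
  algebraize [(f.appLE U.1 W.1 e).hom]
  haveI : Algebra.FinitePresentation R T := f.finitePresentation_appLE U.2 W.2 e
  have hstr : Spec.map (CommRingCat.ofHom (algebraMap R T)) ≫ U.2.fromSpec = W.2.fromSpec ≫ f :=
    IsAffineOpen.SpecMap_appLE_fromSpec f U.2 W.2 e
  let K : Ideal T := Ideal.ofList as
  let ιK : Spec (CommRingCat.of (T ⧸ K)) ⟶ Spec (CommRingCat.of T) :=
    Spec.map (CommRingCat.ofHom (Ideal.Quotient.mk K))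
  haveI : IsClosedImmersion ιK := IsClosedImmersion.spec_of_surjective _ Ideal.Quotient.mk_surjective
  have hDc : D.comap W.2.fromSpec = ιK.ker := by
    rw [comap_fromSpec D W, hIa, ExcSmooth.centre_eq_ker]
  have hle : D.subschemeι.ker ≤ (ιK ≫ W.2.fromSpec).ker := by
    rw [Scheme.IdealSheafData.ker_subschemeι, ← Scheme.IdealSheafData.map_ker]
    exact Scheme.IdealSheafData.le_map_iff_comap_le.mpr hDc.le
  let m := IsClosedImmersion.lift D.subschemeι (ιK ≫ W.2.fromSpec) hle
  have hm : m ≫ D.subschemeι = ιK ≫ W.2.fromSpec := IsClosedImmersion.lift_fac _ _ _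
  have sq : IsPullback ιK m W.2.fromSpec D.subschemeι := isPullback_of_isClosedImmersion ιK _ m _ hm.symm
    (by rw [Scheme.IdealSheafData.ker_subschemeι, hDc])
  haveI : IsOpenImmersion m := MorphismProperty.of_isPullback (P := @IsOpenImmersion) sq inferInstance
  obtain ⟨v, hv⟩ : D.subschemeι d ∈ Set.range W.2.fromSpec := by
    rw [W.2.range_fromSpec]; exact hxW
  obtain ⟨q, hqv, hqd⟩ := Scheme.Pullback.exists_preimage_pullback v d hv
  let q₀ := sq.isoPullback.inv q
  have hq₀d : m q₀ = d := by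
    rw [← Scheme.Hom.comp_apply, sq.isoPullback_inv_snd]
    exact hqd
  obtain ⟨_, ⟨_, ⟨h, rfl⟩, rfl⟩, hqh, hhV⟩ := PrimeSpectrum.isBasis_basic_opens.exists_subset_of_mem_open
    (show q₀ ∈ m ⁻¹ᵁ V by show m q₀ ∈ V; rwa [hq₀d]) (m ⁻¹ᵁ V).isOpen
  let Qh := Localization.Away h
  let j : Spec (CommRingCat.of Qh) ⟶ Spec (CommRingCat.of (T ⧸ K)) :=
    Spec.map (CommRingCat.ofHom (algebraMap (T ⧸ K) Qh))
  haveI : IsOpenImmersion j := IsOpenImmersion.of_isLocalization h
  have hjr : Set.range (j ≫ m) ⊆ Set.range V.ι := by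
    rintro _ ⟨w, rfl⟩
    rw [Scheme.Opens.range_ι, Scheme.Hom.comp_apply]
    exact hhV ((PrimeSpectrum.localization_away_comap_range Qh h).le ⟨w, rfl⟩)
  have hjs : Smooth (Spec.map (CommRingCat.ofHom (algebraMap R Qh))) := by
    refine LimSm.of_comp_mono (P := @Smooth) _ U.2.fromSpec ?_
    rw [show Spec.map (CommRingCat.ofHom (algebraMap R Qh)) =
        j ≫ ιK ≫ Spec.map (CommRingCat.ofHom (algebraMap R T)) by
          rw [← Spec.map_comp, ← Spec.map_comp]; rfl,
      Category.assoc, Category.assoc, hstr, ← reassoc_of% hm,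
      ← reassoc_of% IsOpenImmersion.lift_fac V.ι (j ≫ m) hjr]
    haveI : Smooth (IsOpenImmersion.lift V.ι (j ≫ m) hjr) :=
      LimSm.of_comp_mono (P := @Smooth) _ V.ι (by rw [IsOpenImmersion.lift_fac]; infer_instance)
    infer_instance
  haveI hQh : Algebra.Smooth R Qh :=
    RingHom.smooth_algebraMap.mp ((HasRingHomProperty.Spec_iff (P := @Smooth)).mp hjs)
  haveI : Algebra.FinitePresentation R (T ⧸ K) :=
    Algebra.FinitePresentation.quotient (CartierFP.fg_ofList as)
  haveI : Algebra.IsSmoothAt (A := T ⧸ K) R q₀.asIdeal :=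
    (Algebra.basicOpen_subset_smoothLocus_iff_smooth (R := R)).mpr hQh
      (show q₀ ∈ PrimeSpectrum.basicOpen h from hqh)
  haveI := isSmoothAt_of_weaklyRegular (R := R) as hreg q₀.asIdeal
  obtain ⟨h₁, hh₁, hsm⟩ :=
    Algebra.IsSmoothAt.exists_notMem_smooth (R := R) (q₀.asIdeal.comap (Ideal.Quotient.mk K))
  let Th := Localization.Away h₁
  let n : Spec (CommRingCat.of Th) ⟶ X := Spec.map (CommRingCat.ofHom (algebraMap T Th)) ≫ W.2.fromSpec
  haveI : IsOpenImmersion (Spec.map (CommRingCat.ofHom (algebraMap T Th))) :=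
    IsOpenImmersion.of_isLocalization h₁
  refine ⟨n.opensRange, ?_, ?_⟩
  · obtain ⟨w, hw⟩ := (PrimeSpectrum.localization_away_comap_range Th h₁).ge
      (show ιK q₀ ∈ PrimeSpectrum.basicOpen h₁ from hh₁)
    refine ⟨w, ?_⟩
    show W.2.fromSpec (Spec.map (CommRingCat.ofHom (algebraMap T Th)) w) = D.subschemeι d
    refine (congrArg W.2.fromSpec hw).trans ?_
    exact (show (ιK ≫ W.2.fromSpec) q₀ = D.subschemeι d by rw [← hm]; exact congrArg D.subschemeι hq₀d)
  · rw [← Scheme.Hom.isoOpensRange_inv_comp n, Category.assoc]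
    haveI : Smooth (Spec.map (CommRingCat.ofHom (algebraMap R Th))) :=
      (HasRingHomProperty.Spec_iff (P := @Smooth)).mpr (RingHom.smooth_algebraMap.mpr hsm)
    haveI : Smooth (n ≫ f) := by
      simp only [n, Category.assoc]
      rw [← hstr, ← Spec.map_comp_assoc, ← CommRingCat.ofHom_comp, ← IsScalarTower.algebraMap_eq R T Th]
      infer_instance
    infer_instance

end Groth.Agent.CartierFP
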